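import Mathlib

/-!
# The combinatorial core of the cyclic trivial-intersection construction

A rectangular array of triples of signed points, two triples in a common line sharing exactly one
point and two triples in general position being orthogonal, has a centre in each line.
-/

namespace Cfsg.Agent.OddChar.CyclicTI

universe u v w

open Finset

section Val

variable {S : Type w} [DecidableEq S] (neg : S → S)

/-- The signed indicator of a set of signed points. -/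
def sval (B : Finset S) (s : S) : ℤ :=
  (if s ∈ B then 1 else 0) - (if neg s ∈ B then 1 else 0)

/-- The inner product of two sets of signed points. -/
def sinner (A B : Finset S) : ℤ := ∑ s ∈ A, sval neg B s

theorem sval_abs (B : Finset S) (s : S) : -1 ≤ sval neg B s ∧ sval neg B s ≤ 1 := by
  unfold sval; split_ifs <;> omega

/-- The part of a pairing outside a set of points. -/
theorem sinner_outside (hinv : Function.Involutive neg) {K B B' : Finset S}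
    (hK : ∀ s ∈ K, neg s ∉ K) (hB : ∀ s ∈ B, neg s ∉ B) :
    |sinner neg B B' - ∑ s ∈ K, sval neg B s * sval neg B' s| ≤
      (B.card : ℤ) - ∑ s ∈ K, |sval neg B s| := by
  classical
  set U := B.filter fun s => s ∈ K ∨ neg s ∈ K with hU
  have hsplit : B.filter (fun s => s ∈ K ∨ neg s ∈ K) ∪ B.filter (fun s => ¬(s ∈ K ∨ neg s ∈ K)) = B :=
    Finset.filter_union_filter_not_eq _ _
  set π : S → S := fun s => if s ∈ K then s else neg s with hπ
  have hKB : ∀ f : S → ℤ, (∀ s, f (neg s) = -f s) →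
      ∑ s ∈ K, sval neg B s * f s = ∑ s ∈ U, f s := by
    intro f hf
    have h1 : ∑ s ∈ K, sval neg B s * f s =
        ∑ s ∈ K.filter (fun s => s ∈ B ∨ neg s ∈ B), sval neg B s * f s := by
      refine (Finset.sum_filter_of_ne fun s _ hne => ?_).symm
      by_contra hc
      push Not at hc
      simp [sval, hc.1, hc.2] at hne
    rw [h1]
    refine Finset.sum_bij (fun s _ => if s ∈ B then s else neg s) ?_ ?_ ?_ ?_
    · intro s hs
      obtain ⟨hsK, hsB⟩ := Finset.mem_filter.1 hs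
      split_ifs with h
      · exact Finset.mem_filter.2 ⟨h, Or.inl hsK⟩
      · exact Finset.mem_filter.2 ⟨hsB.resolve_left h, Or.inr (by rw [hinv]; exact hsK)⟩
    · intro s hs t ht he
      have hs' := (Finset.mem_filter.1 hs).1
      have ht' := (Finset.mem_filter.1 ht).1
      split_ifs at he with h1 h2 h2
      · exact he
      · exact absurd (he ▸ hs') (hK t ht')
      · exact absurd (he.symm ▸ ht') (hK s hs')
      · exact hinv.injective he
    · intro t ht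
      obtain ⟨htB, htK⟩ := Finset.mem_filter.1 ht
      rcases htK with h | h
      · exact ⟨t, Finset.mem_filter.2 ⟨h, Or.inl htB⟩, by simp [htB]⟩
      · refine ⟨neg t, Finset.mem_filter.2 ⟨h, Or.inr (by rw [hinv]; exact htB)⟩, ?_⟩
        rw [if_neg (hB t htB), hinv]
    · intro s hs
      obtain ⟨-, hsB⟩ := Finset.mem_filter.1 hs
      split_ifs with h
      · simp [sval, h, hB s h]
      · simp [sval, h, hsB.resolve_left h, hf]
  have hodd : ∀ s, sval neg B' (neg s) = -sval neg B' s := fun s => by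
    simp [sval, hinv s]
  rw [hKB _ hodd]
  have hcard : (∑ s ∈ K, |sval neg B s|) = (U.card : ℤ) := by
    have hsq : ∀ s, |sval neg B s| = sval neg B s * sval neg B s := fun s => by
      unfold sval; split_ifs <;> norm_num
    have hoddB : ∀ s, sval neg B (neg s) = -sval neg B s := fun s => by
      simp [sval, hinv s]
    simp only [hsq]
    rw [hKB _ hoddB, Finset.sum_congr rfl fun s hs => show sval neg B s = 1 by
      simp [sval, (Finset.mem_filter.1 hs).1, hB s (Finset.mem_filter.1 hs).1]]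
    simp
  rw [hcard]
  set R := B.filter (fun s => ¬(s ∈ K ∨ neg s ∈ K))
  have hsum : sinner neg B B' = ∑ s ∈ U, sval neg B' s + ∑ s ∈ R, sval neg B' s := by
    rw [sinner, Finset.sum_filter_add_sum_filter_not]
  have hc : B.card = U.card + R.card := (Finset.card_filter_add_card_filter_not _).symm
  rw [hsum, add_sub_cancel_left, hc]
  push_cast
  rw [add_sub_cancel_left]
  refine (Finset.abs_sum_le_sum_abs _ _).trans ?_
  have := Finset.sum_le_card_nsmul R (fun s => |sval neg B' s|) 1 fun s _ =>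
    abs_le.2 (sval_abs neg B' s)
  simpa using this

theorem abs_sum_le_card (hinv : Function.Involutive neg) {K B : Finset S}
    (hK : ∀ s ∈ K, neg s ∉ K) (hB : ∀ s ∈ B, neg s ∉ B) :
    ∑ s ∈ K, |sval neg B s| ≤ (B.card : ℤ) := by
  have h := sinner_outside neg hinv (B' := B) hK hB
  linarith [abs_nonneg (sinner neg B B - ∑ s ∈ K, sval neg B s * sval neg B s)]

end Val

/-- An array of signed triples with the prescribed inner products. -/
structure Grid (I : Type u) (J : Type v) (S : Type w) [DecidableEq S] where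
  T : I → J → Finset S
  neg : S → S
  inv : Function.Involutive neg
  card_T : ∀ i j, (T i j).card = 3
  noNeg : ∀ i j, ∀ s ∈ T i j, neg s ∉ T i j
  row_inter : ∀ i j l, j ≠ l → ∃ s, T i j ∩ T i l = {s}
  row_neg : ∀ i j l, ∀ s ∈ T i j, neg s ∉ T i l
  col_inter : ∀ i k j, i ≠ k → ∃ s, T i j ∩ T k j = {s}
  col_neg : ∀ i k j, ∀ s ∈ T i j, neg s ∉ T k j
  diag : ∀ i k j l, i ≠ k → j ≠ l → sinner neg (T i j) (T k l) = 0

namespace Grid

variable {I : Type u} {J : Type v} {S : Type w} [DecidableEq S] (g : Grid I J S)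

/-- Exchange rows and columns. -/
def transpose : Grid J I S where
  T j i := g.T i j
  neg := g.neg
  inv := g.inv
  card_T j i := g.card_T i j
  noNeg j i := g.noNeg i j
  row_inter j i k h := g.col_inter i k j h
  row_neg j i k := g.col_neg i k j
  col_inter j l i h := g.row_inter i j l h
  col_neg j l i := g.row_neg i j l
  diag j l i k h h' := g.diag i k j l h' h

theorem eq_of_row {i : I} {j l : J} (h : j ≠ l) {s t : S} (hs : s ∈ g.T i j) (hs' : s ∈ g.T i l)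
    (ht : t ∈ g.T i j) (ht' : t ∈ g.T i l) : s = t := by
  obtain ⟨x, hx⟩ := g.row_inter i j l h
  have h1 : s ∈ g.T i j ∩ g.T i l := Finset.mem_inter.2 ⟨hs, hs'⟩
  have h2 : t ∈ g.T i j ∩ g.T i l := Finset.mem_inter.2 ⟨ht, ht'⟩
  rw [hx, Finset.mem_singleton] at h1 h2
  rw [h1, h2]

theorem inner_inter {A B : Finset S} (hn : ∀ s ∈ A, g.neg s ∉ B) :
    sinner g.neg A B = ((A ∩ B).card : ℤ) := by
  rw [sinner, Finset.sum_congr rfl fun s hs => show sval g.neg B s = if s ∈ B then 1 else 0 by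
    simp [sval, hn s hs], Finset.sum_boole, Finset.filter_mem_eq_inter]

theorem inner_row (i : I) {j l : J} (h : j ≠ l) : sinner g.neg (g.T i j) (g.T i l) = 1 := by
  obtain ⟨x, hx⟩ := g.row_inter i j l h
  rw [g.inner_inter (g.row_neg i j l), hx, Finset.card_singleton, Nat.cast_one]

theorem inner_col {i k : I} (j : J) (h : i ≠ k) : sinner g.neg (g.T i j) (g.T k j) = 1 := by
  obtain ⟨x, hx⟩ := g.col_inter i k j h
  rw [g.inner_inter (g.col_neg i k j), hx, Finset.card_singleton, Nat.cast_one]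

theorem inner_val [DecidableEq J] {i k : I} (hik : i ≠ k) (j l : J) :
    sinner g.neg (g.T i j) (g.T k l) = if j = l then 1 else 0 := by
  split_ifs with h
  · rw [h]; exact g.inner_col l hik
  · exact g.diag i k j l hik h

theorem row_noNeg (i : I) {K : Finset S} (hK : ∀ s ∈ K, ∃ j, s ∈ g.T i j) :
    ∀ s ∈ K, g.neg s ∉ K := by
  intro s hs hs'
  obtain ⟨j, hj⟩ := hK s hs
  obtain ⟨l, hl⟩ := hK _ hs'
  exact g.row_neg i j l s hj hl

theorem eq_triple {A : Finset S} (hA : A.card = 3) {a b c : S} (ha : a ∈ A) (hb : b ∈ A)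
    (hc : c ∈ A) (hab : a ≠ b) (hac : a ≠ c) (hbc : b ≠ c) : A = {a, b, c} := by
  refine (Finset.eq_of_subset_of_card_le ?_ ?_).symm
  · intro s hs
    simp only [Finset.mem_insert, Finset.mem_singleton] at hs
    rcases hs with rfl | rfl | rfl <;> assumption
  · rw [hA]; simp [hab, hac, hbc]

theorem sum_triple {a b c : S} (hab : a ≠ b) (hac : a ≠ c) (hbc : b ≠ c) (f : S → ℤ) :
    ∑ s ∈ ({a, b, c} : Finset S), f s = f a + f b + f c := by
  simp [hab, hac, hbc]; ring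

/-- No four triples of a row form a complete quadrilateral. -/
theorem no_pasch [DecidableEq J] {i k : I} (hik : i ≠ k) {j : Fin 4 → J}
    (hj : Function.Injective j)
    (h : ∀ a b c : Fin 4, a ≠ b → a ≠ c → b ≠ c → ∀ s, s ∈ g.T i (j a) → s ∈ g.T i (j b) →
      s ∉ g.T i (j c)) : False := by
  have hp : ∀ a b : Fin 4, a ≠ b → ∃ s, s ∈ g.T i (j a) ∧ s ∈ g.T i (j b) := by
    intro a b hab
    obtain ⟨s, hs⟩ := g.row_inter i (j a) (j b) (hj.ne hab)
    have hm : s ∈ g.T i (j a) ∩ g.T i (j b) := by rw [hs]; exact Finset.mem_singleton_self s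
    exact ⟨s, Finset.mem_inter.1 hm⟩
  obtain ⟨p01, a01, b01⟩ := hp 0 1 (by decide)
  obtain ⟨p02, a02, b02⟩ := hp 0 2 (by decide)
  obtain ⟨p03, a03, b03⟩ := hp 0 3 (by decide)
  obtain ⟨p12, a12, b12⟩ := hp 1 2 (by decide)
  obtain ⟨p13, a13, b13⟩ := hp 1 3 (by decide)
  obtain ⟨p23, a23, b23⟩ := hp 2 3 (by decide)
  have n1 : p01 ≠ p02 := fun e => h 0 1 2 (by decide) (by decide) (by decide) _ a01 b01 (e ▸ b02)
  have n2 : p01 ≠ p03 := fun e => h 0 1 3 (by decide) (by decide) (by decide) _ a01 b01 (e ▸ b03)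
  have n3 : p02 ≠ p03 := fun e => h 0 2 3 (by decide) (by decide) (by decide) _ a02 b02 (e ▸ b03)
  have n4 : p01 ≠ p12 := fun e => h 0 1 2 (by decide) (by decide) (by decide) _ a01 b01 (e ▸ b12)
  have n5 : p01 ≠ p13 := fun e => h 0 1 3 (by decide) (by decide) (by decide) _ a01 b01 (e ▸ b13)
  have n6 : p12 ≠ p13 := fun e => h 1 2 3 (by decide) (by decide) (by decide) _ a12 b12 (e ▸ b13)
  have n7 : p02 ≠ p12 := fun e => h 0 2 1 (by decide) (by decide) (by decide) _ a02 b02 (e ▸ a12)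
  have n8 : p02 ≠ p23 := fun e => h 0 2 3 (by decide) (by decide) (by decide) _ a02 b02 (e ▸ b23)
  have n9 : p12 ≠ p23 := fun e => h 1 2 3 (by decide) (by decide) (by decide) _ a12 b12 (e ▸ b23)
  have n10 : p03 ≠ p13 := fun e => h 0 3 1 (by decide) (by decide) (by decide) _ a03 b03 (e ▸ a13)
  have n11 : p03 ≠ p23 := fun e => h 0 3 2 (by decide) (by decide) (by decide) _ a03 b03 (e ▸ a23)
  have n12 : p13 ≠ p23 := fun e => h 1 3 2 (by decide) (by decide) (by decide) _ a13 b13 (e ▸ a23)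
  have e0 := g.inner_val hik (j 0) (j 0)
  have e1 := g.inner_val hik (j 1) (j 0)
  have e2 := g.inner_val hik (j 2) (j 0)
  have e3 := g.inner_val hik (j 3) (j 0)
  rw [sinner, eq_triple (g.card_T i _) a01 a02 a03 n1 n2 n3, sum_triple n1 n2 n3, if_pos rfl] at e0
  rw [sinner, eq_triple (g.card_T i _) b01 a12 a13 n4 n5 n6, sum_triple n4 n5 n6,
    if_neg (hj.ne (by decide))] at e1
  rw [sinner, eq_triple (g.card_T i _) b02 b12 a23 n7 n8 n9, sum_triple n7 n8 n9,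
    if_neg (hj.ne (by decide))] at e2
  rw [sinner, eq_triple (g.card_T i _) b03 b13 b23 n10 n11 n12, sum_triple n10 n11 n12,
    if_neg (hj.ne (by decide))] at e3
  omega

/-- Coordinates of a triple of row `k` on the seven points of row `i`. -/
theorem cases_last {x a b c d e f : ℤ} (hx : -1 ≤ x ∧ x ≤ 1) (ha : -1 ≤ a ∧ a ≤ 1)
    (hb : -1 ≤ b ∧ b ≤ 1) (hc : -1 ≤ c ∧ c ≤ 1) (h : a + b + c = 1) (h1 : x + a + d = 0)
    (h2 : x + b + e = 0) (h3 : x + c + f = 0)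
    (hn : |x| + |a| + |b| + |c| + |d| + |e| + |f| ≤ 3) :
    x = 0 ∧ ((a = 1 ∧ b = 0 ∧ c = 0) ∨ (a = 0 ∧ b = 1 ∧ c = 0) ∨ (a = 0 ∧ b = 0 ∧ c = 1)) := by
  obtain rfl : d = -x - a := by omega
  obtain rfl : e = -x - b := by omega
  obtain rfl : f = -x - c := by omega
  obtain ⟨hx1, hx2⟩ := hx; obtain ⟨ha1, ha2⟩ := ha; obtain ⟨hb1, hb2⟩ := hb; obtain ⟨hc1, hc2⟩ := hc
  interval_cases x <;> interval_cases a <;> interval_cases b <;> interval_cases c <;>
    first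
      | (norm_num at h; done)
      | (norm_num at hn; done)
      | norm_num

theorem cases_first {x a b c d e f : ℤ} (hx : -1 ≤ x ∧ x ≤ 1) (ha : -1 ≤ a ∧ a ≤ 1)
    (hb : -1 ≤ b ∧ b ≤ 1) (hc : -1 ≤ c ∧ c ≤ 1) (h : a + b + c = 0) (h1 : x + a + d = 1)
    (h2 : x + b + e = 0) (h3 : x + c + f = 0)
    (hn : |x| + |a| + |b| + |c| + |d| + |e| + |f| ≤ 3) :
    (x = 1 ∧ a = 0 ∧ b = 0 ∧ c = 0) ∨ (x = 0 ∧ a = 1 ∧ b = -1 ∧ c = 0) ∨
      (x = 0 ∧ a = 1 ∧ b = 0 ∧ c = -1) ∨ (x = 0 ∧ a = 0 ∧ b = 0 ∧ c = 0) := by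
  obtain rfl : d = 1 - x - a := by omega
  obtain rfl : e = -x - b := by omega
  obtain rfl : f = -x - c := by omega
  obtain ⟨hx1, hx2⟩ := hx; obtain ⟨ha1, ha2⟩ := ha; obtain ⟨hb1, hb2⟩ := hb; obtain ⟨hc1, hc2⟩ := hc
  interval_cases x <;> interval_cases a <;> interval_cases b <;> interval_cases c <;>
    first
      | (norm_num at h; done)
      | (norm_num at hn; done)
      | norm_num

/-- If the last triple is `y₁ - z₁ + w`, then some earlier one is impossible. -/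
theorem config_aux {u v1 v2 v3 : Fin 7 → ℤ}
    (hu : u 0 = 0 ∧ u 1 = 1 ∧ u 2 = 0 ∧ u 3 = 0 ∧ u 4 = -1 ∧ u 5 = 0 ∧ u 6 = 0)
    (p1 : v1 0 + v1 1 + v1 4 = 1 ∧ v1 0 + v1 2 + v1 5 = 0 ∧ v1 0 + v1 3 + v1 6 = 0)
    (p2 : v2 0 + v2 2 + v2 5 = 1 ∧ v2 0 + v2 3 + v2 6 = 0 ∧ v2 0 + v2 1 + v2 4 = 0)
    (p3 : v3 0 + v3 3 + v3 6 = 1 ∧ v3 0 + v3 1 + v3 4 = 0 ∧ v3 0 + v3 2 + v3 5 = 0)
    (c1 : (v1 0 = 1 ∧ v1 1 = 0 ∧ v1 2 = 0 ∧ v1 3 = 0) ∨ (v1 0 = 0 ∧ v1 1 = 1 ∧ v1 2 = -1 ∧ v1 3 = 0) ∨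
      (v1 0 = 0 ∧ v1 1 = 1 ∧ v1 2 = 0 ∧ v1 3 = -1) ∨ (v1 0 = 0 ∧ v1 1 = 0 ∧ v1 2 = 0 ∧ v1 3 = 0))
    (c2 : (v2 0 = 1 ∧ v2 2 = 0 ∧ v2 3 = 0 ∧ v2 1 = 0) ∨ (v2 0 = 0 ∧ v2 2 = 1 ∧ v2 3 = -1 ∧ v2 1 = 0) ∨
      (v2 0 = 0 ∧ v2 2 = 1 ∧ v2 3 = 0 ∧ v2 1 = -1) ∨ (v2 0 = 0 ∧ v2 2 = 0 ∧ v2 3 = 0 ∧ v2 1 = 0))
    (c3 : (v3 0 = 1 ∧ v3 3 = 0 ∧ v3 1 = 0 ∧ v3 2 = 0) ∨ (v3 0 = 0 ∧ v3 3 = 1 ∧ v3 1 = -1 ∧ v3 2 = 0) ∨
      (v3 0 = 0 ∧ v3 3 = 1 ∧ v3 1 = 0 ∧ v3 2 = -1) ∨ (v3 0 = 0 ∧ v3 3 = 0 ∧ v3 1 = 0 ∧ v3 2 = 0))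
    (i1 : |1 - ∑ t, u t * v1 t| ≤ 3 - ∑ t, |u t|)
    (i12 : |1 - ∑ t, v1 t * v2 t| ≤ 3 - ∑ t, |v1 t|)
    (i13 : |1 - ∑ t, v1 t * v3 t| ≤ 3 - ∑ t, |v1 t|)
    (i2 : |1 - ∑ t, u t * v2 t| ≤ 3 - ∑ t, |u t|)
    (i3 : |1 - ∑ t, u t * v3 t| ≤ 3 - ∑ t, |u t|) : False := by
  obtain ⟨u0, u1, u2, u3, u4, u5, u6⟩ := hu
  simp only [Fin.sum_univ_seven, u0, u1, u2, u3, u4, u5, u6] at i1 i12 i13 i2 i3
  norm_num at i1 i2 i3
  rcases c1 with ⟨a0, a1, a2, a3⟩ | ⟨a0, a1, a2, a3⟩ | ⟨a0, a1, a2, a3⟩ | ⟨a0, a1, a2, a3⟩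
  all_goals
    obtain ⟨q1, q2, q3⟩ := p1
    have a4 : v1 4 = 1 - v1 0 - v1 1 := by omega
    have a5 : v1 5 = -v1 0 - v1 2 := by omega
    have a6 : v1 6 = -v1 0 - v1 3 := by omega
    rw [a4, a0, a1] at i1
    rw [a4, a5, a6, a0, a1, a2, a3] at i12 i13
  all_goals (try norm_num at i1)
  all_goals (try norm_num at i12)
  all_goals (try norm_num at i13)
  all_goals
    first
    | omega
    | (obtain ⟨r1, r2, r3⟩ := p3
       rw [show v3 4 = -v3 0 - v3 1 by omega] at i3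
       rw [show v3 5 = -v3 0 - v3 2 by omega] at i13
       rcases c3 with ⟨b0, b3, b1, b2⟩ | ⟨b0, b3, b1, b2⟩ | ⟨b0, b3, b1, b2⟩ | ⟨b0, b3, b1, b2⟩ <;>
         simp only [b0, b1, b2, b3] at i3 i13 <;> norm_num at i3 i13 <;> omega)
    | (obtain ⟨r1, r2, r3⟩ := p2
       rw [show v2 4 = -v2 0 - v2 1 by omega] at i2
       rw [show v2 6 = -v2 0 - v2 3 by omega] at i12
       rcases c2 with ⟨b0, b2, b3, b1⟩ | ⟨b0, b2, b3, b1⟩ | ⟨b0, b2, b3, b1⟩ | ⟨b0, b2, b3, b1⟩ <;>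
         simp only [b0, b1, b2, b3] at i2 i12 <;> norm_num at i2 i12 <;> omega)

/-- No four triples of a row with three through a point and one avoiding it. -/
theorem no_config [DecidableEq J] {i k : I} (hik : i ≠ k) {j₁ j₂ j₃ j₄ : J} (h12 : j₁ ≠ j₂)
    (h13 : j₁ ≠ j₃) (h23 : j₂ ≠ j₃) (h14 : j₁ ≠ j₄) (h24 : j₂ ≠ j₄) (h34 : j₃ ≠ j₄) {x : S}
    (x1 : x ∈ g.T i j₁) (x2 : x ∈ g.T i j₂) (x3 : x ∈ g.T i j₃) (x4 : x ∉ g.T i j₄) : False := by
  classical
  have hp : ∀ j l : J, j ≠ l → ∃ s, s ∈ g.T i j ∧ s ∈ g.T i l := by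
    intro j l h
    obtain ⟨s, hs⟩ := g.row_inter i j l h
    have hm : s ∈ g.T i j ∩ g.T i l := by rw [hs]; exact Finset.mem_singleton_self s
    exact ⟨s, Finset.mem_inter.1 hm⟩
  have hz : ∀ j : J, j ≠ j₄ → x ∈ g.T i j → ∃ y z, y ∈ g.T i j ∧ y ∈ g.T i j₄ ∧ z ∈ g.T i j ∧
      z ∉ g.T i j₄ ∧ x ≠ y ∧ x ≠ z ∧ y ≠ z := by
    intro j hj hx
    obtain ⟨y, hy, hy'⟩ := hp j j₄ hj
    have hxy : x ≠ y := fun e => x4 (e ▸ hy')
    have hc : 0 < (((g.T i j).erase x).erase y).card := by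
      rw [Finset.card_erase_of_mem (Finset.mem_erase.2 ⟨hxy.symm, hy⟩),
        Finset.card_erase_of_mem hx, g.card_T]; norm_num
    obtain ⟨z, hz⟩ := Finset.card_pos.1 hc
    obtain ⟨hzy, hz2⟩ := Finset.mem_erase.1 hz
    obtain ⟨hzx, hz3⟩ := Finset.mem_erase.1 hz2
    exact ⟨y, z, hy, hy', hz3, fun h => hzy (g.eq_of_row hj hz3 h hy hy'), hxy, hzx.symm, hzy.symm⟩
  obtain ⟨y1, z1, y1a, y1b, z1a, z1b, xy1, xz1, yz1⟩ := hz j₁ h14 x1
  obtain ⟨y2, z2, y2a, y2b, z2a, z2b, xy2, xz2, yz2⟩ := hz j₂ h24 x2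
  obtain ⟨y3, z3, y3a, y3b, z3a, z3b, xy3, xz3, yz3⟩ := hz j₃ h34 x3
  have y12 : y1 ≠ y2 := fun e => xy1 (g.eq_of_row h12 x1 x2 y1a (e ▸ y2a))
  have y13 : y1 ≠ y3 := fun e => xy1 (g.eq_of_row h13 x1 x3 y1a (e ▸ y3a))
  have y23 : y2 ≠ y3 := fun e => xy2 (g.eq_of_row h23 x2 x3 y2a (e ▸ y3a))
  have z12 : z1 ≠ z2 := fun e => xz1 (g.eq_of_row h12 x1 x2 z1a (e ▸ z2a))
  have z13 : z1 ≠ z3 := fun e => xz1 (g.eq_of_row h13 x1 x3 z1a (e ▸ z3a))
  have z23 : z2 ≠ z3 := fun e => xz2 (g.eq_of_row h23 x2 x3 z2a (e ▸ z3a))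
  set P : Fin 7 → S := ![x, y1, y2, y3, z1, z2, z3] with hP
  have hyz : ∀ {y z : S}, y ∈ g.T i j₄ → z ∉ g.T i j₄ → y ≠ z := fun hy hz e => hz (e ▸ hy)
  have hPinj : Function.Injective P := by
    have a1 := hyz y1b z2b; have a2 := hyz y1b z3b; have a3 := hyz y2b z1b
    have a4 := hyz y2b z3b; have a5 := hyz y3b z1b; have a6 := hyz y3b z2b
    rw [← List.nodup_ofFn]
    simp [hP, List.ofFn_succ, xy1, xy2, xy3, xz1, xz2, xz3, y12, y13, y23, z12, z13, z23, yz1, yz2,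
      yz3, a1, a2, a3, a4, a5, a6]
  set K := Finset.univ.image P with hK
  have hKneg : ∀ s ∈ K, g.neg s ∉ K := g.row_noNeg i fun s hs => by
    obtain ⟨t, -, rfl⟩ := Finset.mem_image.1 hs
    fin_cases t
    exacts [⟨j₁, x1⟩, ⟨j₁, y1a⟩, ⟨j₂, y2a⟩, ⟨j₃, y3a⟩, ⟨j₁, z1a⟩, ⟨j₂, z2a⟩, ⟨j₃, z3a⟩]
  set v : J → Fin 7 → ℤ := fun l t => sval g.neg (g.T k l) (P t) with hv
  have hsum : ∀ f : S → ℤ, ∑ s ∈ K, f s = ∑ t, f (P t) := fun f =>
    Finset.sum_image fun a _ b _ h => hPinj h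
  have hn : ∀ l, ∑ t, |v l t| ≤ 3 := fun l => by
    have := abs_sum_le_card g.neg g.inv hKneg (g.noNeg k l)
    rw [g.card_T, hsum] at this
    exact_mod_cast this
  have hi : ∀ l m, l ≠ m → |1 - ∑ t, v l t * v m t| ≤ 3 - ∑ t, |v l t| := fun l m hlm => by
    have := sinner_outside g.neg g.inv (B' := g.T k m) hKneg (g.noNeg k l)
    rw [g.card_T, hsum, hsum, g.inner_row k hlm] at this
    exact_mod_cast this
  have e1 : ∀ l, v l 0 + v l 1 + v l 4 = if j₁ = l then 1 else 0 := fun l => by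
    rw [← g.inner_val hik, sinner, eq_triple (g.card_T i j₁) x1 y1a z1a xy1 xz1 yz1,
      sum_triple xy1 xz1 yz1]; simp [hv, hP]
  have e2 : ∀ l, v l 0 + v l 2 + v l 5 = if j₂ = l then 1 else 0 := fun l => by
    rw [← g.inner_val hik, sinner, eq_triple (g.card_T i j₂) x2 y2a z2a xy2 xz2 yz2,
      sum_triple xy2 xz2 yz2]; simp [hv, hP]
  have e3 : ∀ l, v l 0 + v l 3 + v l 6 = if j₃ = l then 1 else 0 := fun l => by
    rw [← g.inner_val hik, sinner, eq_triple (g.card_T i j₃) x3 y3a z3a xy3 xz3 yz3,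
      sum_triple xy3 xz3 yz3]; simp [hv, hP]
  have e4 : ∀ l, v l 1 + v l 2 + v l 3 = if j₄ = l then 1 else 0 := fun l => by
    rw [← g.inner_val hik, sinner, eq_triple (g.card_T i j₄) y1b y2b y3b y12 y13 y23,
      sum_triple y12 y13 y23]; simp [hv, hP]
  have hb : ∀ l t, -1 ≤ v l t ∧ v l t ≤ 1 := fun l t => sval_abs _ _ _
  have s7 : ∀ w : Fin 7 → ℤ, ∀ σ : Fin 7 → Fin 7, Function.Bijective σ →
      ∑ t, |w t| = |w (σ 0)| + |w (σ 1)| + |w (σ 2)| + |w (σ 3)| + |w (σ 4)| + |w (σ 5)| + |w (σ 6)| :=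
    fun w σ hσ => by rw [← hσ.sum_comp fun t => |w t|, Fin.sum_univ_seven]
  have c1 : _ := cases_first (hb j₁ 0) (hb j₁ 1) (hb j₁ 2) (hb j₁ 3) (d := v j₁ 4) (e := v j₁ 5)
    (f := v j₁ 6) (by simpa [h14.symm] using e4 j₁) (by simpa using e1 j₁)
    (by simpa [h12.symm] using e2 j₁) (by simpa [h13.symm] using e3 j₁)
    (by have := hn j₁; rwa [Fin.sum_univ_seven] at this)
  have c2 : _ := cases_first (hb j₂ 0) (hb j₂ 2) (hb j₂ 3) (hb j₂ 1) (d := v j₂ 5) (e := v j₂ 6)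
    (f := v j₂ 4) (by have := e4 j₂; rw [if_neg h24.symm] at this; omega) (by simpa using e2 j₂)
    (by simpa [h23.symm] using e3 j₂) (by simpa [h12] using e1 j₂)
    (by have := hn j₂; rw [Fin.sum_univ_seven] at this; linarith)
  have c3 : _ := cases_first (hb j₃ 0) (hb j₃ 3) (hb j₃ 1) (hb j₃ 2) (d := v j₃ 6) (e := v j₃ 4)
    (f := v j₃ 5) (by have := e4 j₃; rw [if_neg h34.symm] at this; omega) (by simpa using e3 j₃)
    (by simpa [h13] using e1 j₃) (by simpa [h23] using e2 j₃)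
    (by have := hn j₃; rw [Fin.sum_univ_seven] at this; linarith)
  have q1 : v j₁ 0 + v j₁ 1 + v j₁ 4 = 1 ∧ v j₁ 0 + v j₁ 2 + v j₁ 5 = 0 ∧
      v j₁ 0 + v j₁ 3 + v j₁ 6 = 0 :=
    ⟨by simpa using e1 j₁, by simpa [h12.symm] using e2 j₁, by simpa [h13.symm] using e3 j₁⟩
  have q2 : v j₂ 0 + v j₂ 2 + v j₂ 5 = 1 ∧ v j₂ 0 + v j₂ 3 + v j₂ 6 = 0 ∧
      v j₂ 0 + v j₂ 1 + v j₂ 4 = 0 :=
    ⟨by simpa using e2 j₂, by simpa [h23.symm] using e3 j₂, by simpa [h12] using e1 j₂⟩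
  have q3 : v j₃ 0 + v j₃ 3 + v j₃ 6 = 1 ∧ v j₃ 0 + v j₃ 1 + v j₃ 4 = 0 ∧
      v j₃ 0 + v j₃ 2 + v j₃ 5 = 0 :=
    ⟨by simpa using e3 j₃, by simpa [h13] using e1 j₃, by simpa [h23] using e2 j₃⟩
  have hlast := cases_last (hb j₄ 0) (hb j₄ 1) (hb j₄ 2) (hb j₄ 3) (d := v j₄ 4) (e := v j₄ 5)
    (f := v j₄ 6) (by simpa using e4 j₄) (by simpa [h14] using e1 j₄)
    (by simpa [h24] using e2 j₄) (by simpa [h34] using e3 j₄)
    (by have := hn j₄; rwa [Fin.sum_univ_seven] at this)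
  have u4 : v j₄ 4 = -v j₄ 0 - v j₄ 1 := by have := e1 j₄; rw [if_neg h14] at this; omega
  have u5 : v j₄ 5 = -v j₄ 0 - v j₄ 2 := by have := e2 j₄; rw [if_neg h24] at this; omega
  have u6 : v j₄ 6 = -v j₄ 0 - v j₄ 3 := by have := e3 j₄; rw [if_neg h34] at this; omega
  obtain ⟨u0, ⟨a, b, c⟩ | ⟨a, b, c⟩ | ⟨a, b, c⟩⟩ := hlast
  · exact config_aux (u := v j₄) ⟨u0, a, b, c, by omega, by omega, by omega⟩ q1 q2 q3 c1 c2 c3
      (hi j₄ j₁ h14.symm) (hi j₁ j₂ h12) (hi j₁ j₃ h13) (hi j₄ j₂ h24.symm) (hi j₄ j₃ h34.symm)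
  · set σ : Fin 7 → Fin 7 := ![0, 2, 3, 1, 5, 6, 4] with hσ
    have hbij : Function.Bijective σ := by rw [hσ]; decide
    have hperm : ∀ f : Fin 7 → ℤ, ∑ t, f (σ t) = ∑ t, f t := fun f => hbij.sum_comp f
    refine config_aux (u := v j₄ ∘ σ) (v1 := v j₂ ∘ σ) (v2 := v j₃ ∘ σ) (v3 := v j₁ ∘ σ)
      ⟨u0, b, c, a, ?_, ?_, ?_⟩ q2 q3 q1 c2 c3 c1 ?_ ?_ ?_ ?_ ?_
    · show v j₄ 5 = -1; omega
    · show v j₄ 6 = 0; omega
    · show v j₄ 4 = 0; omega
    all_goals simp only [Function.comp_apply]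
    · rw [hperm fun t => v j₄ t * v j₂ t, hperm fun t => |v j₄ t|]; exact hi _ _ h24.symm
    · rw [hperm fun t => v j₂ t * v j₃ t, hperm fun t => |v j₂ t|]; exact hi _ _ h23
    · rw [hperm fun t => v j₂ t * v j₁ t, hperm fun t => |v j₂ t|]; exact hi _ _ h12.symm
    · rw [hperm fun t => v j₄ t * v j₃ t, hperm fun t => |v j₄ t|]; exact hi _ _ h34.symm
    · rw [hperm fun t => v j₄ t * v j₁ t, hperm fun t => |v j₄ t|]; exact hi _ _ h14.symm
  · set σ : Fin 7 → Fin 7 := ![0, 3, 1, 2, 6, 4, 5] with hσ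
    have hbij : Function.Bijective σ := by rw [hσ]; decide
    have hperm : ∀ f : Fin 7 → ℤ, ∑ t, f (σ t) = ∑ t, f t := fun f => hbij.sum_comp f
    refine config_aux (u := v j₄ ∘ σ) (v1 := v j₃ ∘ σ) (v2 := v j₁ ∘ σ) (v3 := v j₂ ∘ σ)
      ⟨u0, c, a, b, ?_, ?_, ?_⟩ q3 q1 q2 c3 c1 c2 ?_ ?_ ?_ ?_ ?_
    · show v j₄ 6 = -1; omega
    · show v j₄ 4 = 0; omega
    · show v j₄ 5 = 0; omega
    all_goals simp only [Function.comp_apply]
    · rw [hperm fun t => v j₄ t * v j₃ t, hperm fun t => |v j₄ t|]; exact hi _ _ h34.symm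
    · rw [hperm fun t => v j₃ t * v j₁ t, hperm fun t => |v j₃ t|]; exact hi _ _ h13.symm
    · rw [hperm fun t => v j₃ t * v j₂ t, hperm fun t => |v j₃ t|]; exact hi _ _ h23.symm
    · rw [hperm fun t => v j₄ t * v j₁ t, hperm fun t => |v j₄ t|]; exact hi _ _ h14.symm
    · rw [hperm fun t => v j₄ t * v j₂ t, hperm fun t => |v j₄ t|]; exact hi _ _ h24.symm

/-- Each row has a centre. -/
theorem row_centre [DecidableEq J] [Fintype J] {i k : I} (hik : i ≠ k) (hJ : 4 ≤ Fintype.card J) :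
    ∃ x, ∀ j, x ∈ g.T i j := by
  classical
  obtain ⟨a, b, hab⟩ := Fintype.exists_pair_of_one_lt_card (α := J) (by omega)
  obtain ⟨x, hx⟩ := g.row_inter i a b hab
  have hxm : x ∈ g.T i a ∩ g.T i b := by rw [hx]; exact Finset.mem_singleton_self x
  obtain ⟨hxa, hxb⟩ := Finset.mem_inter.1 hxm
  refine ⟨x, fun c => by_contra fun hc => ?_⟩
  have hac : a ≠ c := fun e => hc (e ▸ hxa)
  have hbc : b ≠ c := fun e => hc (e ▸ hxb)
  obtain ⟨d, -, hd⟩ := Finset.exists_mem_notMem_of_card_lt_card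
    (s := ({a, b, c} : Finset J)) (t := Finset.univ) (by
      rw [Finset.card_univ]
      calc _ ≤ 3 := Finset.card_le_three
        _ < _ := by omega)
  simp only [Finset.mem_insert, Finset.mem_singleton, not_or] at hd
  obtain ⟨hda, hdb, hdc⟩ := hd
  set j : Fin 4 → J := ![a, b, c, d] with hj
  have hinj : Function.Injective j := by
    intro s t hst
    fin_cases s <;> fin_cases t <;> simp_all [eq_comm]
  refine g.no_pasch hik hinj fun p q r hpq hpr hqr s hp hq hr => ?_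
  -- a common point of three of the four
  have h4 : ∀ p q r : Fin 4, ∃ t, t ≠ p ∧ t ≠ q ∧ t ≠ r := by decide
  have h5 : ∀ p q r t m : Fin 4, p ≠ q → p ≠ r → q ≠ r → t ≠ p → t ≠ q → t ≠ r →
      m = p ∨ m = q ∨ m = r ∨ m = t := by decide
  obtain ⟨t, htp, htq, htr⟩ := h4 p q r
  by_cases hst : s ∈ g.T i (j t)
  · have hall : ∀ m : Fin 4, s ∈ g.T i (j m) := by
      intro m
      rcases h5 p q r t m hpq hpr hqr htp htq htr with rfl | rfl | rfl | rfl <;> assumption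
    have hsa : s ∈ g.T i a := by simpa [hj] using hall 0
    have hsb : s ∈ g.T i b := by simpa [hj] using hall 1
    have hsc : s ∈ g.T i c := by simpa [hj] using hall 2
    exact hc (g.eq_of_row hab hxa hxb hsa hsb ▸ hsc)
  · exact g.no_config hik (hinj.ne hpq) (hinj.ne hpr) (hinj.ne hqr) (hinj.ne htp.symm)
      (hinj.ne htq.symm) (hinj.ne htr.symm) hp hq hr hst

/-- Triples in general position share no point, even up to sign. -/
theorem diag_disjoint [DecidableEq J] [Fintype J] (hJ : 4 ≤ Fintype.card J) {i k : I} (hik : i ≠ k)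
    {j l : J} (hjl : j ≠ l) {s : S} (hs : s ∈ g.T i j) : s ∉ g.T k l ∧ g.neg s ∉ g.T k l := by
  classical
  obtain ⟨R, hR⟩ := g.row_centre hik hJ
  obtain ⟨R', hR'⟩ := g.row_centre hik.symm hJ
  have zero : ∀ {a b : I} {x : S}, a ≠ b → (∀ j, x ∈ g.T a j) → ∀ l, sval g.neg (g.T b l) x = 0 := by
    intro a b x hab hx l
    by_contra hne
    set K := (Finset.univ : Finset J).biUnion fun j => g.T a j with hK
    have hKneg : ∀ s ∈ K, g.neg s ∉ K := g.row_noNeg a fun s hs => by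
      obtain ⟨j, -, hj⟩ := Finset.mem_biUnion.1 hs; exact ⟨j, hj⟩
    have hle := abs_sum_le_card g.neg g.inv hKneg (g.noNeg b l)
    rw [g.card_T] at hle
    have hsplit : K = insert x ((Finset.univ : Finset J).biUnion fun j => (g.T a j).erase x) := by
      ext s
      simp only [hK, Finset.mem_biUnion, Finset.mem_univ, true_and, Finset.mem_insert, Finset.mem_erase]
      constructor
      · rintro ⟨j, hj⟩
        by_cases h : s = x
        · exact Or.inl h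
        · exact Or.inr ⟨j, h, hj⟩
      · rintro (rfl | ⟨j, -, hj⟩)
        · exact ⟨l, hx l⟩
        · exact ⟨j, hj⟩
    have hdisj : Set.PairwiseDisjoint (↑(Finset.univ : Finset J) : Set J)
        fun j => (g.T a j).erase x := by
      intro p _ q _ hpq
      refine Finset.disjoint_left.2 fun s hsp hsq => ?_
      obtain ⟨h1, h2⟩ := Finset.mem_erase.1 hsp
      exact h1 (g.eq_of_row hpq h2 (Finset.mem_erase.1 hsq).2 (hx p) (hx q))
    rw [hsplit, Finset.sum_insert (by simp), Finset.sum_biUnion hdisj] at hle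
    have hp : ∀ j ∈ (Finset.univ : Finset J).erase l,
        (1 : ℤ) ≤ ∑ s ∈ (g.T a j).erase x, |sval g.neg (g.T b l) s| := by
      intro j hj
      have h1 := g.inner_val hab j l
      rw [if_neg (Finset.mem_erase.1 hj).1, sinner, ← Finset.add_sum_erase _ _ (hx j)] at h1
      have h2 := Finset.abs_sum_le_sum_abs (sval g.neg (g.T b l)) ((g.T a j).erase x)
      rw [show ∑ s ∈ (g.T a j).erase x, sval g.neg (g.T b l) s = -sval g.neg (g.T b l) x by omega,
        abs_neg] at h2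
      have : (1 : ℤ) ≤ |sval g.neg (g.T b l) x| := Int.one_le_abs hne
      omega
    have h3 := Finset.sum_le_sum_of_subset_of_nonneg (s := (Finset.univ : Finset J).erase l)
      (t := Finset.univ) (f := fun j => ∑ s ∈ (g.T a j).erase x, |sval g.neg (g.T b l) s|)
      (Finset.erase_subset _ _) (fun j _ _ => Finset.sum_nonneg fun s _ => abs_nonneg _)
    have h4 := Finset.card_nsmul_le_sum _ _ _ hp
    rw [Finset.card_erase_of_mem (Finset.mem_univ l), Finset.card_univ, nsmul_eq_mul, mul_one] at h4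
    have h5 : (1 : ℤ) ≤ |sval g.neg (g.T b l) x| := Int.one_le_abs hne
    have : (3 : ℤ) ≤ ((Fintype.card J - 1 : ℕ) : ℤ) := by omega
    omega
  have hv : ∀ {B : Finset S} {s : S}, (∀ t ∈ B, g.neg t ∉ B) → sval g.neg B s = 0 →
      s ∉ B ∧ g.neg s ∉ B := by
    intro B s hB h
    refine ⟨fun h' => ?_, fun h' => ?_⟩
    · simp [sval, h', hB s h'] at h
    · have hs' : s ∉ B := fun h'' => hB s h'' h'
      simp [sval, h', hs'] at h
  by_cases hsR : s = R
  · exact hsR ▸ hv (g.noNeg k l) (zero hik hR l)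
  refine hv (g.noNeg k l) ?_
  by_contra hne
  -- the other point of the same triple
  have hpair : ∀ m, ∃ p q, p ≠ q ∧ p ≠ R ∧ q ≠ R ∧ g.T i m = {R, p, q} := by
    intro m
    have hc : ((g.T i m).erase R).card = 2 := by
      rw [Finset.card_erase_of_mem (hR m), g.card_T]
    obtain ⟨p, q, hpq, he⟩ := Finset.card_eq_two.1 hc
    have hp : p ∈ (g.T i m).erase R := by rw [he]; simp
    have hq : q ∈ (g.T i m).erase R := by rw [he]; simp
    refine ⟨p, q, hpq, (Finset.mem_erase.1 hp).1, (Finset.mem_erase.1 hq).1, ?_⟩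
    rw [← Finset.insert_erase (hR m), he]
  obtain ⟨p, q, hpq, hpR, hqR, heq⟩ := hpair j
  obtain ⟨p', q', hpq', hpR', hqR', heq'⟩ := hpair l
  have hsum := g.inner_val hik j l
  have hsum' := g.inner_val hik l l
  rw [sinner, heq, sum_triple hpR.symm hqR.symm hpq, zero hik hR, if_neg hjl] at hsum
  rw [sinner, heq', sum_triple hpR'.symm hqR'.symm hpq', zero hik hR, if_pos rfl] at hsum'
  rw [heq] at hs
  simp only [Finset.mem_insert, Finset.mem_singleton, hsR, false_or] at hs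
  have hnz : sval g.neg (g.T k l) p ≠ 0 ∧ sval g.neg (g.T k l) q ≠ 0 := by
    rcases hs with rfl | rfl <;> exact ⟨by omega, by omega⟩
  have hnz' : sval g.neg (g.T k l) p' ≠ 0 ∨ sval g.neg (g.T k l) q' ≠ 0 := by omega
  have hone : sval g.neg (g.T k l) R' ≠ 0 := by simp [sval, hR' l, g.noNeg k l R' (hR' l)]
  obtain ⟨r, hr, hrne⟩ : ∃ r, r ∈ ({p', q'} : Finset S) ∧ sval g.neg (g.T k l) r ≠ 0 := by
    rcases hnz' with h | h
    · exact ⟨p', by simp, h⟩
    · exact ⟨q', by simp, h⟩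
  have hrl : r ∈ g.T i l ∧ r ≠ R := by
    simp only [Finset.mem_insert, Finset.mem_singleton] at hr
    rcases hr with rfl | rfl
    · exact ⟨by simp [heq'], hpR'⟩
    · exact ⟨by simp [heq'], hqR'⟩
  have hpj : p ∈ g.T i j := by simp [heq]
  have hqj : q ∈ g.T i j := by simp [heq]
  have hrp : r ≠ p := fun e => hrl.2 (g.eq_of_row hjl (e ▸ hpj) hrl.1 (hR j) (hR l))
  have hrq : r ≠ q := fun e => hrl.2 (g.eq_of_row hjl (e ▸ hqj) hrl.1 (hR j) (hR l))
  have hR'i : ∀ m, R' ∉ g.T i m ∧ g.neg R' ∉ g.T i m := fun m =>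
    hv (g.noNeg i m) (zero hik.symm hR' m)
  have n1 : R' ≠ p := fun e => (hR'i j).1 (e ▸ hpj)
  have n2 : R' ≠ q := fun e => (hR'i j).1 (e ▸ hqj)
  have n3 : R' ≠ r := fun e => (hR'i l).1 (e ▸ hrl.1)
  set K : Finset S := {R', p, q, r} with hKdef
  have hKneg : ∀ t ∈ K, g.neg t ∉ K := by
    have hin : ∀ t ∈ K, t = R' ∨ ∃ m, t ∈ g.T i m := by
      intro t ht
      simp only [hKdef, Finset.mem_insert, Finset.mem_singleton] at ht
      rcases ht with rfl | rfl | rfl | rfl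
      exacts [Or.inl rfl, Or.inr ⟨j, hpj⟩, Or.inr ⟨j, hqj⟩, Or.inr ⟨l, hrl.1⟩]
    intro t ht ht'
    rcases hin t ht with h1 | ⟨m, h1⟩ <;> rcases hin _ ht' with h2 | ⟨n, h2⟩
    · exact g.noNeg k l t (h1 ▸ hR' l) (h2 ▸ hR' l)
    · exact (hR'i n).2 (h1 ▸ h2)
    · have : g.neg R' = t := by rw [← h2, g.inv]
      exact (hR'i m).2 (this ▸ h1)
    · exact g.row_neg i m n t h1 h2
  have hle := abs_sum_le_card g.neg g.inv hKneg (g.noNeg k l)
  rw [g.card_T, hKdef, Finset.sum_insert (by simp [n1, n2, n3]), sum_triple hpq hrp.symm hrq.symm] at hle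
  have a1 := Int.one_le_abs hone
  have a2 := Int.one_le_abs hnz.1
  have a3 := Int.one_le_abs hnz.2
  have a4 := Int.one_le_abs hrne
  omega

/-- The centres and third points, pairwise distinct up to sign. -/
theorem exists_centres [DecidableEq I] [Fintype I] [DecidableEq J] [Fintype J]
    (hI : Fintype.card I = 2 ∨ 4 ≤ Fintype.card I) (hJ : 4 ≤ Fintype.card J) :
    ∃ (R : I → S) (C : J → S) (X : I → J → S),
      (∀ i j, g.T i j = {R i, C j, X i j} ∧ R i ≠ C j ∧ R i ≠ X i j ∧ C j ≠ X i j) ∧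
      Function.Injective (Sum.elim (Sum.elim R C) (fun p : I × J => X p.1 p.2)) ∧
      ∀ a b, g.neg (Sum.elim (Sum.elim R C) (fun p : I × J => X p.1 p.2) a) ≠
        Sum.elim (Sum.elim R C) (fun p : I × J => X p.1 p.2) b := by
  classical
  have hother : ∀ i : I, ∃ k, i ≠ k := fun i => by
    obtain ⟨k, hk⟩ := Fintype.exists_ne_of_one_lt_card (by omega) i
    exact ⟨k, hk.symm⟩
  have hR : ∀ i, ∃ x, ∀ j, x ∈ g.T i j := fun i => by
    obtain ⟨k, hk⟩ := hother i; exact g.row_centre hk hJ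
  have hC : ∀ j, ∃ x, ∀ i, x ∈ g.T i j := by
    intro j
    rcases hI with h2 | h4
    · obtain ⟨a, b, hab, huniv⟩ := Finset.card_eq_two.1 ((Finset.card_univ).trans h2)
      obtain ⟨x, hx⟩ := g.col_inter a b j hab
      have hxm : x ∈ g.T a j ∩ g.T b j := by rw [hx]; exact Finset.mem_singleton_self x
      refine ⟨x, fun i => ?_⟩
      have hi : i ∈ ({a, b} : Finset I) := huniv ▸ Finset.mem_univ i
      simp only [Finset.mem_insert, Finset.mem_singleton] at hi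
      rcases hi with rfl | rfl
      · exact (Finset.mem_inter.1 hxm).1
      · exact (Finset.mem_inter.1 hxm).2
    · obtain ⟨l, hl⟩ := Fintype.exists_ne_of_one_lt_card (by omega) j
      exact g.transpose.row_centre hl.symm h4
  choose R hR using hR
  choose C hC using hC
  have dd : ∀ {i k : I} {j l : J}, i ≠ k → j ≠ l → ∀ {s : S}, s ∈ g.T i j →
      s ∉ g.T k l ∧ g.neg s ∉ g.T k l := fun h h' _ hs => g.diag_disjoint hJ h h' hs
  have hRout : ∀ {i k : I}, i ≠ k → ∀ j, R i ∉ g.T k j := by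
    intro i k hik j
    obtain ⟨l, hl⟩ := Fintype.exists_ne_of_one_lt_card (α := J) (by omega) j
    exact (dd hik hl (hR i l)).1
  have hCout : ∀ {j l : J}, j ≠ l → ∀ i, C j ∉ g.T i l := by
    intro j l hjl i
    obtain ⟨k, hk⟩ := hother i
    exact (dd hk.symm hjl (hC j k)).1
  have hRC : ∀ i j, R i ≠ C j := fun i j e => by
    obtain ⟨k, hk⟩ := hother i
    exact hRout hk j (e ▸ hC j k)
  have hX : ∀ i j, ∃ x, x ≠ R i ∧ x ≠ C j ∧ g.T i j = {R i, C j, x} := by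
    intro i j
    have hc : 0 < (((g.T i j).erase (R i)).erase (C j)).card := by
      rw [Finset.card_erase_of_mem (Finset.mem_erase.2 ⟨(hRC i j).symm, hC j i⟩),
        Finset.card_erase_of_mem (hR i j), g.card_T]; norm_num
    obtain ⟨x, hx⟩ := Finset.card_pos.1 hc
    obtain ⟨h1, h2⟩ := Finset.mem_erase.1 hx
    obtain ⟨h3, h4⟩ := Finset.mem_erase.1 h2
    exact ⟨x, h3, h1, eq_triple (g.card_T i j) (hR i j) (hC j i) h4 (hRC i j) h3.symm h1.symm⟩
  choose X hX1 hX2 hX3 using hX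
  have hXm : ∀ i j, X i j ∈ g.T i j := fun i j => by rw [hX3]; simp
  refine ⟨R, C, X, fun i j => ⟨hX3 i j, hRC i j, (hX1 i j).symm, (hX2 i j).symm⟩, ?_, ?_⟩
  · have RR : ∀ i k, R i = R k → i = k := fun i k e => by_contra fun h => by
      obtain ⟨j⟩ : Nonempty J := Fintype.card_pos_iff.1 (by omega)
      exact hRout h j (e ▸ hR k j)
    have CC : ∀ j l, C j = C l → j = l := fun j l e => by_contra fun h => by
      obtain ⟨i⟩ : Nonempty I := Fintype.card_pos_iff.1 (by omega)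
      exact hCout h i (e ▸ hC l i)
    have RX : ∀ i k l, R i ≠ X k l := fun i k l e => by
      by_cases h : i = k
      · subst h; exact hX1 i l e.symm
      · exact hRout h l (e ▸ hXm k l)
    have CX : ∀ j k l, C j ≠ X k l := fun j k l e => by
      by_cases h : j = l
      · subst h; exact hX2 k j e.symm
      · exact hCout h k (e ▸ hXm k l)
    have XX : ∀ i j k l, X i j = X k l → i = k ∧ j = l := by
      intro i j k l e
      by_cases h : i = k <;> by_cases h' : j = l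
      · exact ⟨h, h'⟩
      · subst h; exact absurd (g.eq_of_row h' (hXm i j) (e ▸ hXm i l) (hR i j) (hR i l)) (hX1 i j)
      · subst h'
        exact absurd (g.transpose.eq_of_row h (hXm i j) (e ▸ hXm k j) (hC j i) (hC j k)) (hX2 i j)
      · exact absurd (e ▸ hXm k l) (dd h h' (hXm i j)).1
    rintro ((i | j) | ⟨i, j⟩) ((k | l) | ⟨k, l⟩) e <;> simp only [Sum.elim_inl, Sum.elim_inr] at e
    · rw [RR i k e]
    · exact absurd e (hRC i l)
    · exact absurd e (RX i k l)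
    · exact absurd e.symm (hRC k j)
    · rw [CC j l e]
    · exact absurd e (CX j k l)
    · exact absurd e.symm (RX k i j)
    · exact absurd e.symm (CX l i j)
    · obtain ⟨h1, h2⟩ := XX i j k l e; rw [h1, h2]
  · have hneg : ∀ {i k : I} {j l : J} {s t : S}, s ∈ g.T i j → t ∈ g.T k l → g.neg s ≠ t := by
      intro i k j l s t hs ht e
      by_cases h : i = k
      · subst h; exact g.row_neg i j l s hs (e ▸ ht)
      by_cases h' : j = l
      · subst h'; exact g.col_neg i k j s hs (e ▸ ht)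
      exact (dd h h' hs).2 (e ▸ ht)
    obtain ⟨i₀⟩ : Nonempty I := Fintype.card_pos_iff.1 (by omega)
    obtain ⟨j₀⟩ : Nonempty J := Fintype.card_pos_iff.1 (by omega)
    have hm : ∀ a, ∃ i j, Sum.elim (Sum.elim R C) (fun p : I × J => X p.1 p.2) a ∈ g.T i j := by
      rintro ((i | j) | ⟨i, j⟩)
      exacts [⟨i, j₀, hR i j₀⟩, ⟨i₀, j, hC j i₀⟩, ⟨i, j, hXm i j⟩]
    intro a b
    obtain ⟨i, j, hs⟩ := hm a
    obtain ⟨k, l, ht⟩ := hm b
    exact hneg hs ht

end Grid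

end Cfsg.Agent.OddChar.CyclicTI
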