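import Cfsg.Agent.OddChar.CyclicTI.Duals
import Cfsg.Agent.OddChar.CyclicTI.Grid
import Cfsg.Agent.OddChar.Lattice

/-!
# Existence of the family attached to a self-normalising cyclic subgroup of odd order
-/

set_option linter.style.haveILetI false

namespace Cfsg.Agent.OddChar.CyclicTI

open Cfsg.Agent.Characters
open scoped ComplexConjugate

universe u

variable {G : Type u} [Group G] [Fintype G]

/-- A signed irreducible character. -/
abbrev SPt (G : Type u) [Group G] : Type u := Cfsg.IrrCharacter G × Bool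

/-- Change the sign. -/
def SPt.neg (s : SPt G) : SPt G := (s.1, !s.2)

/-- The class function of a signed point. -/
def SPt.val (s : SPt G) : G → ℂ := if s.2 then (s.1 : G → ℂ) else -(s.1 : G → ℂ)

omit [Fintype G] in
theorem SPt.neg_val (s : SPt G) : SPt.val s.neg = -SPt.val s := by
  obtain ⟨χ, b⟩ := s; cases b <;> simp [SPt.val, SPt.neg]

open Classical in
theorem SPt.inner_val (s t : SPt G) : Cfsg.classInner s.val t.val =
    (if s = t then 1 else 0) - (if s.neg = t then 1 else 0) := by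
  obtain ⟨χ, b⟩ := s
  obtain ⟨ψ, c⟩ := t
  have h := classInner_irr χ ψ
  have hneg : ∀ f g : G → ℂ, Cfsg.classInner f (-g) = -Cfsg.classInner f g := fun f g => by
    simp [classInner_def]
  cases b <;> cases c <;> by_cases e : χ = ψ <;>
    simp [SPt.val, SPt.neg, classInner_neg_left, hneg, classInner_irr, e]

open Classical in
/-- The signed constituents of a virtual character with coefficients at most one. -/
noncomputable def supp [Fintype (Cfsg.IrrCharacter G)] (d : G → ℂ) : Finset (SPt G) :=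
  Finset.univ.filter fun s => Lattice.coeff d s.1 = if s.2 then 1 else -1

section Triple

variable [Fintype (Cfsg.IrrCharacter G)]

theorem mem_supp {d : G → ℂ} {s : SPt G} :
    s ∈ supp d ↔ Lattice.coeff d s.1 = if s.2 then 1 else -1 := by
  classical
  simp [supp]

/-- A virtual character of norm three with degree `-1`. -/
structure IsTriple (d : G → ℂ) : Prop where
  gen : Cfsg.IsGeneralizedCharacter G d
  norm : Cfsg.classInner d d = 3
  deg : d 1 = -1

theorem IsTriple.abs_le {d : G → ℂ} (h : IsTriple d) (χ : Cfsg.IrrCharacter G) :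
    -1 ≤ Lattice.coeff d χ ∧ Lattice.coeff d χ ≤ 1 := by
  have hs := Lattice.sum_sq_of_norm h.gen (n := 3) (by simpa using h.norm)
  have := Finset.single_le_sum (f := fun χ => Lattice.coeff d χ ^ 2) (fun _ _ => sq_nonneg _)
    (Finset.mem_univ χ)
  rw [hs] at this
  constructor <;> nlinarith [sq_nonneg (Lattice.coeff d χ - 1), sq_nonneg (Lattice.coeff d χ + 1)]

theorem IsTriple.noNeg {d : G → ℂ} {s : SPt G} (hs : s ∈ supp d) : s.neg ∉ supp d := by
  obtain ⟨χ, b⟩ := s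
  rw [mem_supp] at hs ⊢
  cases b <;> simp [SPt.neg] at hs ⊢ <;> omega

theorem IsTriple.sum_supp {d : G → ℂ} (h : IsTriple d) {M : Type*} [AddCommMonoid M]
    (F : SPt G → M) (f : Cfsg.IrrCharacter G → M) (h0 : ∀ χ, Lattice.coeff d χ = 0 → f χ = 0)
    (hF : ∀ s ∈ supp d, F s = f s.1) : ∑ s ∈ supp d, F s = ∑ χ, f χ := by
  classical
  rw [← Finset.sum_filter_of_ne (p := fun χ => Lattice.coeff d χ ≠ 0)
    fun χ _ hne h' => hne (h0 χ h')]
  refine Finset.sum_bij (fun s _ => s.1) (fun s hs => Finset.mem_filter.2 ⟨Finset.mem_univ _, ?_⟩)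
    ?_ ?_ hF
  · rw [mem_supp] at hs; rw [hs]; split_ifs <;> omega
  · intro s hs t ht he
    rw [mem_supp] at hs ht
    refine Prod.ext he ?_
    rw [he, ht] at hs
    cases hs' : s.2 <;> cases ht' : t.2 <;> simp [hs', ht'] at hs ⊢
  · intro χ hχ
    have hne := (Finset.mem_filter.1 hχ).2
    have := h.abs_le χ
    by_cases h1 : Lattice.coeff d χ = 1
    · exact ⟨(χ, true), mem_supp.2 (by simp [h1]), rfl⟩
    · exact ⟨(χ, false), mem_supp.2 (by simp; omega), rfl⟩

theorem IsTriple.card_supp {d : G → ℂ} (h : IsTriple d) : (supp d).card = 3 := by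
  have hs := Lattice.sum_sq_of_norm h.gen (n := 3) (by simpa using h.norm)
  rw [← h.sum_supp (F := fun _ => (1 : ℤ)) _ (fun χ h0 => by simp [h0])
    (fun s hs' => by rw [mem_supp] at hs'; rw [hs']; split_ifs <;> norm_num)] at hs
  simp at hs
  exact_mod_cast hs

open Classical in
theorem IsTriple.sinner_eq {d e : G → ℂ} (hd : IsTriple d) (he : IsTriple e) :
    (sinner SPt.neg (supp d) (supp e) : ℂ) = Cfsg.classInner d e := by
  rw [Lattice.inner_eq_sum hd.gen he.gen, sinner,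
    hd.sum_supp (fun s => sval SPt.neg (supp e) s)
      (fun χ => Lattice.coeff d χ * Lattice.coeff e χ) (fun χ h0 => by simp [h0])]
  rintro ⟨χ, b⟩ hs
  have hb := he.abs_le χ
  rw [mem_supp] at hs
  simp only [sval, mem_supp, SPt.neg] at hs ⊢
  rw [hs]
  cases b <;> simp <;> split_ifs <;> omega

theorem IsTriple.eq_sum {d : G → ℂ} (h : IsTriple d) : d = ∑ s ∈ supp d, s.val := by
  rw [h.sum_supp SPt.val (fun χ => (Lattice.coeff d χ : ℂ) • (χ : G → ℂ))
    (fun χ h0 => by simp [h0])]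
  · exact Lattice.expansion h.gen
  · rintro ⟨χ, b⟩ hs
    rw [mem_supp] at hs
    rw [hs]
    cases b <;> simp [SPt.val]

open Classical in
theorem IsTriple.no_neg_of_inner_one {d e : G → ℂ} (hd : IsTriple d) (he : IsTriple e)
    (h : Cfsg.classInner d e = 1) {s : SPt G} (hs : s ∈ supp d) : s.neg ∉ supp e := by
  intro hs'
  have hde := Lattice.inner_eq_sum hd.gen he.gen
  rw [h, ← Int.cast_one, Int.cast_inj] at hde
  have hsd := Lattice.sum_sq_of_norm hd.gen (n := 3) (by simpa using hd.norm)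
  have hse := Lattice.sum_sq_of_norm he.gen (n := 3) (by simpa using he.norm)
  obtain ⟨χ, b⟩ := s
  rw [mem_supp] at hs hs'
  simp only [SPt.neg] at hs hs'
  have hsum : ∑ ψ, (Lattice.coeff d ψ - Lattice.coeff e ψ) ^ 2 = 4 := by
    have : ∀ ψ, (Lattice.coeff d ψ - Lattice.coeff e ψ) ^ 2 = Lattice.coeff d ψ ^ 2 +
        Lattice.coeff e ψ ^ 2 - 2 * (Lattice.coeff d ψ * Lattice.coeff e ψ) := fun ψ => by ring
    simp only [this, Finset.sum_sub_distrib, Finset.sum_add_distrib, ← Finset.mul_sum, hsd, hse,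
      ← hde]
    norm_num
  have hχ : (Lattice.coeff d χ - Lattice.coeff e χ) ^ 2 = 4 := by
    rw [hs, hs']; cases b <;> norm_num
  have hzero : ∀ ψ, ψ ≠ χ → Lattice.coeff d ψ = Lattice.coeff e ψ := by
    intro ψ hψ
    rw [← Finset.add_sum_erase _ _ (Finset.mem_univ χ), hχ] at hsum
    have h0 : ∑ ψ ∈ Finset.univ.erase χ, (Lattice.coeff d ψ - Lattice.coeff e ψ) ^ 2 = 0 := by
      linarith
    rw [Finset.sum_eq_zero_iff_of_nonneg fun _ _ => sq_nonneg _] at h0
    have := h0 ψ (Finset.mem_erase.2 ⟨hψ, Finset.mem_univ _⟩)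
    exact sub_eq_zero.1 (pow_eq_zero_iff two_ne_zero |>.1 this)
  have h1 : d 1 - e 1 = 0 := by rw [hd.deg, he.deg, sub_self]
  rw [Lattice.apply_eq_sum hd.gen, Lattice.apply_eq_sum he.gen, ← Finset.sum_sub_distrib,
    Finset.sum_eq_single χ (fun ψ _ hψ => by rw [hzero ψ hψ, sub_self]) (by simp), ← sub_mul,
    hs, hs'] at h1
  have := (mul_eq_zero.1 h1).resolve_right (irr_one_ne_zero χ.2)
  cases b <;> norm_num at this

open Classical in
theorem IsTriple.inter_of_inner_one {d e : G → ℂ} (hd : IsTriple d) (he : IsTriple e)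
    (h : Cfsg.classInner d e = 1) : ∃ s, supp d ∩ supp e = {s} := by
  have hs := hd.sinner_eq he
  rw [h, sinner, Finset.sum_congr rfl fun s hs => show sval SPt.neg (supp e) s =
      if s ∈ supp e then 1 else 0 by simp [sval, hd.no_neg_of_inner_one he h hs],
    Finset.sum_boole, Finset.filter_mem_eq_inter, ← Int.cast_one, Int.cast_inj] at hs
  exact Finset.card_eq_one.1 (by exact_mod_cast hs)

end Triple

variable {W₁ W₂ : Subgroup G}

theorem card_coprime (hS : Split W₁ W₂) [IsCyclic ↥(W₁ ⊔ W₂)] :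
    Nat.Coprime (Nat.card W₁) (Nat.card W₂) :=
  (Group.isCyclic_prod_iff.1 (isCyclic_of_surjective hS.prodEquiv.symm.toMonoidHom
    hS.prodEquiv.symm.surjective)).2.2

/-- The induced function minus the principal character. -/
noncomputable def dfun (W₁ W₂ : Subgroup G) (φ ψ : ↥(W₁ ⊔ W₂) →* ℂˣ) : G → ℂ :=
  Cfsg.indFun (W₁ ⊔ W₂) (alpha φ ψ) - fun _ => 1

section Exists

variable (hW : Cfsg.IsSelfNormalizingCyclic W₁ W₂) {φ φ' ψ ψ' : ↥(W₁ ⊔ W₂) →* ℂˣ}
include hW

open Classical in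
theorem inner_ind_one (hφ : IsLeft φ) (hψ : IsRight ψ) (h1 : φ ≠ 1) (h2 : ψ ≠ 1) :
    Cfsg.classInner (Cfsg.indFun (W₁ ⊔ W₂) (alpha φ ψ)) (fun _ => 1) = 1 := by
  haveI := Fintype.ofFinite ↥(W₁ ⊔ W₂)
  rw [frobenius_reciprocity (W₁ ⊔ W₂) _ (χ := fun _ : G => (1 : ℂ)) (fun _ _ => rfl), alpha_eq]
  have e : (fun _ : ↥(W₁ ⊔ W₂) => (1 : ℂ)) =
      fun w => ((1 : ↥(W₁ ⊔ W₂) →* ℂˣ) w : ℂ) := by funext w; simp
  rw [e]
  simp only [classInner_add_left, classInner_sub_left, inner_linear]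
  have e4 : φ * ψ ≠ 1 := fun e => h1
    ((split_of hW).mul_inj hφ isLeft_one hψ isRight_one
      (e.trans (one_mul (1 : ↥(W₁ ⊔ W₂) →* ℂˣ)).symm)).1
  rw [if_neg h1, if_neg h2, if_neg e4]; simp

open Classical in
theorem inner_dfun (hφ : IsLeft φ) (hφ' : IsLeft φ') (hψ : IsRight ψ) (hψ' : IsRight ψ')
    (h1 : φ ≠ 1) (h1' : φ' ≠ 1) (h2 : ψ ≠ 1) (h2' : ψ' ≠ 1) :
    Cfsg.classInner (dfun W₁ W₂ φ ψ) (dfun W₁ W₂ φ' ψ') =
      (if φ = φ' then 1 else 0) + (if ψ = ψ' then 1 else 0) +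
        (if φ = φ' then 1 else 0) * (if ψ = ψ' then 1 else 0) := by
  haveI := Fintype.ofFinite ↥(W₁ ⊔ W₂)
  rw [dfun, dfun]
  simp only [classInner_sub_left, classInner_sub_right]
  rw [inner_ind hW _ _ (fun w => alpha_eq_zero hφ hψ) (fun w => alpha_eq_zero hφ' hψ'),
    inner_alpha (split_of hW) hφ hφ' hψ hψ' h1 h1' h2 h2', inner_ind_one hW hφ hψ h1 h2,
    classInner_conj_symm (Cfsg.indFun (W₁ ⊔ W₂) (alpha φ' ψ')), inner_ind_one hW hφ' hψ' h1' h2',
    map_one, classInner_isIrr_self isIrrCharacter_one]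
  ring

theorem isTriple_dfun (hφ : IsLeft φ) (hψ : IsRight ψ) (h1 : φ ≠ 1) (h2 : ψ ≠ 1) :
    IsTriple (dfun W₁ W₂ φ ψ) := by
  classical
  refine ⟨isGen_sub (isGen_indFun _ ?_) (isGen_of_isCharacter isCharacter_one), ?_, ?_⟩
  · rw [alpha_eq]
    exact isGen_add (isGen_sub (isGen_sub (isGen_of_isCharacter (isCharacter_linear _))
      (isGen_of_isCharacter (isCharacter_linear _))) (isGen_of_isCharacter (isCharacter_linear _)))
      (isGen_of_isCharacter (isCharacter_linear _))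
  · rw [inner_dfun hW hφ hφ hψ hψ h1 h1 h2 h2]; simp; norm_num
  · simp [dfun, Pi.sub_apply, indFun_one, alpha]

/-- Existence of the family. -/
theorem exists_family (hodd : Odd (Nat.card ↥(W₁ ⊔ W₂))) :
    ∃ χ : (↥(W₁ ⊔ W₂) →* ℂˣ) → (G → ℂ), Cfsg.IsCyclicTIFamily W₁ W₂ χ := by
  classical
  haveI := Fintype.ofFinite ↥(W₁ ⊔ W₂)
  haveI := Fintype.ofFinite (↥(W₁ ⊔ W₂) →* ℂˣ)
  haveI := Fintype.ofFinite (Cfsg.IrrCharacter G)
  haveI := hW.2.2.2.2.1
  have hS := split_of hW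
  have hcm := comm_of hW
  let I := {φ : ↥(W₁ ⊔ W₂) →* ℂˣ // IsLeft φ ∧ φ ≠ 1}
  let J := {φ : ↥(W₁ ⊔ W₂) →* ℂˣ // IsRight φ ∧ φ ≠ 1}
  have hdel : ∀ (P : (↥(W₁ ⊔ W₂) →* ℂˣ) → Prop), P 1 →
      Fintype.card {φ // P φ ∧ φ ≠ 1} + 1 = Nat.card {φ // P φ} := by
    intro P hP
    rw [Nat.card_eq_fintype_card, Fintype.card_subtype, Fintype.card_subtype,
      show (Finset.univ.filter fun φ => P φ ∧ φ ≠ 1) = (Finset.univ.filter P).erase 1 by
        ext φ; simp [and_comm],
      Finset.card_erase_add_one (Finset.mem_filter.2 ⟨Finset.mem_univ _, hP⟩)]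
  have hI : Fintype.card I + 1 = Nat.card W₁ := (hdel _ isLeft_one).trans (card_left hS hcm)
  have hJ : Fintype.card J + 1 = Nat.card W₂ := (hdel _ isRight_one).trans (card_right hS hcm)
  set T : I → J → Finset (SPt G) := fun i j => supp (dfun W₁ W₂ i.1 j.1) with hTdef
  have ht : ∀ (i : I) (j : J), IsTriple (dfun W₁ W₂ i.1 j.1) := fun i j =>
    isTriple_dfun hW i.2.1 j.2.1 i.2.2 j.2.2
  have hin : ∀ (i k : I) (j l : J), Cfsg.classInner (dfun W₁ W₂ i.1 j.1) (dfun W₁ W₂ k.1 l.1) =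
      (if i.1 = k.1 then 1 else 0) + (if j.1 = l.1 then 1 else 0) +
        (if i.1 = k.1 then 1 else 0) * (if j.1 = l.1 then 1 else 0) := fun i k j l =>
    by rw [inner_dfun hW i.2.1 k.2.1 j.2.1 l.2.1 i.2.2 k.2.2 j.2.2 l.2.2]; congr!
  have hrow : ∀ (i : I) (j l : J), j ≠ l →
      Cfsg.classInner (dfun W₁ W₂ i.1 j.1) (dfun W₁ W₂ i.1 l.1) = 1 := fun i j l h => by
    rw [hin, if_pos rfl, if_neg fun e => h (Subtype.ext e)]; simp
  have hcol : ∀ (i k : I) (j : J), i ≠ k →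
      Cfsg.classInner (dfun W₁ W₂ i.1 j.1) (dfun W₁ W₂ k.1 j.1) = 1 := fun i k j h => by
    rw [hin, if_pos rfl, if_neg fun e => h (Subtype.ext e)]; simp
  let g : Grid I J (SPt G) :=
    { T := T
      neg := SPt.neg
      inv := fun s => by simp [SPt.neg]
      card_T := fun i j => (ht i j).card_supp
      noNeg := fun i j s hs => IsTriple.noNeg hs
      row_inter := fun i j l h => (ht i j).inter_of_inner_one (ht i l) (hrow i j l h)
      row_neg := fun i j l s hs => by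
        by_cases h : j = l
        · subst h; exact IsTriple.noNeg hs
        · exact (ht i j).no_neg_of_inner_one (ht i l) (hrow i j l h) hs
      col_inter := fun i k j h => (ht i j).inter_of_inner_one (ht k j) (hcol i k j h)
      col_neg := fun i k j s hs => by
        by_cases h : i = k
        · subst h; exact IsTriple.noNeg hs
        · exact (ht i j).no_neg_of_inner_one (ht k j) (hcol i k j h) hs
      diag := fun i k j l h h' => by
        have := (ht i j).sinner_eq (ht k l)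
        rw [hin, if_neg (fun e => h (Subtype.ext e)), if_neg (fun e => h' (Subtype.ext e))] at this
        simp only [add_zero, mul_zero, Int.cast_eq_zero] at this
        convert this }
  obtain ⟨u, hu⟩ := hodd.of_dvd_nat (Subgroup.card_dvd_of_le (le_sup_left : W₁ ≤ W₁ ⊔ W₂))
  obtain ⟨v, hv⟩ := hodd.of_dvd_nat (Subgroup.card_dvd_of_le (le_sup_right : W₂ ≤ W₁ ⊔ W₂))
  have h1 : Nat.card W₁ ≠ 1 := fun e => hW.1 (Subgroup.card_eq_one.1 e)
  have h2 : Nat.card W₂ ≠ 1 := fun e => hW.2.1 (Subgroup.card_eq_one.1 e)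
  have hne : Nat.card W₁ ≠ Nat.card W₂ := fun e => h2 (by
    have := card_coprime hS; rw [e, Nat.coprime_self] at this; exact this)
  obtain ⟨R, C, X, hT', hinj, hnn⟩ : ∃ (R : I → SPt G) (C : J → SPt G) (X : I → J → SPt G),
      (∀ i j, T i j = {R i, C j, X i j} ∧ R i ≠ C j ∧ R i ≠ X i j ∧ C j ≠ X i j) ∧
      Function.Injective (Sum.elim (Sum.elim R C) (fun p : I × J => X p.1 p.2)) ∧
      ∀ a b, SPt.neg (Sum.elim (Sum.elim R C) (fun p : I × J => X p.1 p.2) a) ≠
        Sum.elim (Sum.elim R C) (fun p : I × J => X p.1 p.2) b := by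
    by_cases hq : 4 ≤ Fintype.card J
    · exact g.exists_centres (by omega) hq
    · obtain ⟨C, R, X, h, hi, hn⟩ := g.transpose.exists_centres (I := J) (J := I) (by omega) (by omega)
      let σ : (I ⊕ J) ⊕ I × J → (J ⊕ I) ⊕ J × I := Sum.map Sum.swap Prod.swap
      have hσ : Function.Injective σ :=
        Function.Injective.sumMap Sum.swap_leftInverse.injective Prod.swap_injective
      have he : Sum.elim (Sum.elim R C) (fun p : I × J => X p.2 p.1) =
          Sum.elim (Sum.elim C R) (fun p : J × I => X p.1 p.2) ∘ σ := by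
        funext a; rcases a with (i | j) | ⟨i, j⟩ <;> rfl
      refine ⟨R, C, fun i j => X j i, fun i j => ?_, ?_, ?_⟩
      · obtain ⟨e1, e2, e3, e4⟩ := h j i
        refine ⟨e1.trans ?_, e2.symm, e4, e3⟩
        rw [Finset.insert_comm]
      · show Function.Injective (Sum.elim (Sum.elim R C) (fun p : I × J => X p.2 p.1))
        rw [he]; exact hi.comp hσ
      · show ∀ a b, SPt.neg (Sum.elim (Sum.elim R C) (fun p : I × J => X p.2 p.1) a) ≠
          Sum.elim (Sum.elim R C) (fun p : I × J => X p.2 p.1) b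
        rw [he]; exact fun a b => hn (σ a) (σ b)
  set F := Sum.elim (Sum.elim R C) (fun p : I × J => X p.1 p.2) with hF
  have hkey : ∀ ω : ↥(W₁ ⊔ W₂) →* ℂˣ, ω ≠ 1 → ∃ k : (I ⊕ J) ⊕ I × J,
      Sum.elim (Sum.elim (fun i : I => i.1) (fun j : J => j.1)) (fun p : I × J => p.1.1 * p.2.1) k
        = ω := by
    intro ω hω
    obtain ⟨φ, ψ, hφ, hψ, rfl⟩ := hS.exists_split ω
    by_cases a : φ = 1
    · subst a
      have e : (1 : ↥(W₁ ⊔ W₂) →* ℂˣ) * ψ = ψ := one_mul ψ
      rw [e] at hω ⊢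
      exact ⟨Sum.inl (Sum.inr ⟨ψ, hψ, hω⟩), rfl⟩
    by_cases b : ψ = 1
    · subst b
      exact ⟨Sum.inl (Sum.inl ⟨φ, hφ, a⟩), (mul_one φ).symm⟩
    · exact ⟨Sum.inr (⟨φ, hφ, a⟩, ⟨ψ, hψ, b⟩), rfl⟩
  choose key hkey using hkey
  set U : (I ⊕ J) ⊕ I × J → (↥(W₁ ⊔ W₂) →* ℂˣ) :=
    Sum.elim (Sum.elim (fun i : I => i.1) (fun j : J => j.1)) (fun p : I × J => p.1.1 * p.2.1) with hU
  have hUinj : Function.Injective U := by
    have toPair : ∀ k, ∃ φ ψ, IsLeft φ ∧ IsRight ψ ∧ U k = φ * ψ ∧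
        ((φ = 1 ∧ ∃ j : J, k = Sum.inl (Sum.inr j) ∧ ψ = j.1) ∨
         (ψ = 1 ∧ ∃ i : I, k = Sum.inl (Sum.inl i) ∧ φ = i.1) ∨
         (∃ i : I, ∃ j : J, k = Sum.inr (i, j) ∧ φ = i.1 ∧ ψ = j.1)) := by
      rintro ((i | j) | ⟨i, j⟩)
      · exact ⟨i.1, 1, i.2.1, isRight_one, (mul_one i.1).symm, Or.inr (Or.inl ⟨rfl, i, rfl, rfl⟩)⟩
      · exact ⟨1, j.1, isLeft_one, j.2.1, (one_mul j.1).symm, Or.inl ⟨rfl, j, rfl, rfl⟩⟩
      · exact ⟨i.1, j.1, i.2.1, j.2.1, rfl, Or.inr (Or.inr ⟨i, j, rfl, rfl, rfl⟩)⟩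
    intro k l e
    obtain ⟨φ, ψ, hφ, hψ, e1, c1⟩ := toPair k
    obtain ⟨φ', ψ', hφ', hψ', e2, c2⟩ := toPair l
    obtain ⟨rfl, rfl⟩ := hS.mul_inj hφ hφ' hψ hψ' (e1.symm.trans (e.trans e2))
    rcases c1 with ⟨a, j, rfl, b⟩ | ⟨a, i, rfl, b⟩ | ⟨i, j, rfl, b, b'⟩ <;>
      rcases c2 with ⟨c, j', rfl, d⟩ | ⟨c, i', rfl, d⟩ | ⟨i', j', rfl, d, d'⟩
    · rw [show j = j' from Subtype.ext (b.symm.trans d)]
    · exact absurd (d.symm.trans a) i'.2.2
    · exact absurd (d.symm.trans a) i'.2.2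
    · exact absurd (b.symm.trans c) i.2.2
    · rw [show i = i' from Subtype.ext (b.symm.trans d)]
    · exact absurd (d'.symm.trans a) j'.2.2
    · exact absurd (b.symm.trans c) i.2.2
    · exact absurd (b'.symm.trans c) j.2.2
    · rw [show i = i' from Subtype.ext (b.symm.trans d),
        show j = j' from Subtype.ext (b'.symm.trans d')]
  have hU1 : ∀ k, U k ≠ 1 := by
    rintro ((i | j) | ⟨i, j⟩)
    · exact i.2.2
    · exact j.2.2
    · exact fun e => i.2.2 (hS.mul_inj i.2.1 isLeft_one j.2.1 isRight_one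
        (e.trans (one_mul (1 : ↥(W₁ ⊔ W₂) →* ℂˣ)).symm)).1
  set G₀ : (I ⊕ J) ⊕ I × J → SPt G := fun k => if k.isLeft then SPt.neg (F k) else F k with hG₀
  set χ : (↥(W₁ ⊔ W₂) →* ℂˣ) → G → ℂ := fun ω =>
    if h : ω = 1 then fun _ => 1 else (G₀ (key ω h)).val with hχdef
  have hχU : ∀ k, χ (U k) = (G₀ k).val := fun k => by
    simp only [hχdef, dif_neg (hU1 k)]
    rw [hUinj (hkey _ (hU1 k))]
  have hχ1 : χ 1 = fun _ => 1 := by simp [hχdef]
  -- constituents are not principal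
  have hmem : ∀ k, ∃ i j, F k ∈ T i j := by
    obtain ⟨i₀⟩ : Nonempty I := Fintype.card_pos_iff.1 (by omega)
    obtain ⟨j₀⟩ : Nonempty J := Fintype.card_pos_iff.1 (by omega)
    rintro ((i | j) | ⟨i, j⟩)
    · exact ⟨i, j₀, by rw [(hT' i j₀).1]; simp [hF]⟩
    · exact ⟨i₀, j, by rw [(hT' i₀ j).1]; simp [hF]⟩
    · exact ⟨i, j, by rw [(hT' i j).1]; simp [hF]⟩
  have hnontriv : ∀ k, ((F k).1 : G → ℂ) ≠ fun _ => 1 := by
    intro k e
    obtain ⟨i, j, hij⟩ := hmem k
    rw [hTdef, mem_supp] at hij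
    have : Lattice.coeff (dfun W₁ W₂ i.1 j.1) (F k).1 = 0 := by
      refine Lattice.coeff_eq_of_inner ?_
      rw [e, dfun, classInner_sub_left, inner_ind_one hW i.2.1 j.2.1 i.2.2 j.2.2,
        classInner_isIrr_self isIrrCharacter_one]
      simp
    rw [this] at hij
    split_ifs at hij <;> omega
  have hG1 : ∀ k, (G₀ k).1 = (F k).1 := fun k => by simp only [hG₀]; split_ifs <;> rfl
  have hFdist : ∀ k l, (F k).1 = (F l).1 → k = l := by
    intro k l e
    by_cases h : (F k).2 = (F l).2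
    · exact hinj (Prod.ext e h)
    · refine absurd ?_ (hnn k l)
      refine Prod.ext e ?_
      show (!(F k).2) = (F l).2
      revert h; cases (F k).2 <;> cases (F l).2 <;> simp
  have hval1 : ∀ k, Cfsg.classInner (G₀ k).val (fun _ => 1) = 0 := fun k => by
    have h0 : Cfsg.classInner ((G₀ k).1 : G → ℂ) (fun _ => 1) = 0 := by
      rw [hG1]; exact classInner_isIrr_ne (F k).1.2 isIrrCharacter_one (hnontriv k)
    unfold SPt.val
    split_ifs <;> simp [h0, classInner_neg_left]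
  have horth : ∀ ω ω', Cfsg.classInner (χ ω) (χ ω') = if ω = ω' then 1 else 0 := by
    intro ω ω'
    by_cases a : ω = 1 <;> by_cases b : ω' = 1
    · subst a b; rw [hχ1, if_pos rfl, classInner_isIrr_self isIrrCharacter_one]
    · subst a
      rw [hχ1, ← hkey ω' b, hχU, classInner_conj_symm, hval1, map_zero, if_neg (Ne.symm (hU1 _))]
    · subst b
      rw [hχ1, ← hkey ω a, hχU, hval1, if_neg (hU1 _)]
    · rw [← hkey ω a, ← hkey ω' b, hχU, hχU, SPt.inner_val]
      by_cases e : key ω a = key ω' b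
      · have : SPt.neg (G₀ (key ω' b)) ≠ G₀ (key ω' b) := fun h => by
          have := congrArg Prod.snd h
          simp [SPt.neg] at this
        rw [e, if_pos rfl, if_neg this, if_pos rfl, sub_zero]
      · have hne1 : (G₀ (key ω a)).1 ≠ (G₀ (key ω' b)).1 := fun h =>
          e (hFdist _ _ (by rwa [hG1, hG1] at h))
        rw [if_neg (fun h => hne1 (congrArg Prod.fst h)),
          if_neg (fun h => hne1 (by have := congrArg Prod.fst h; simpa [SPt.neg] using this)),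
          if_neg (fun h => e (hUinj h)), sub_zero]
  have hind : ∀ φ ψ : ↥(W₁ ⊔ W₂) →* ℂˣ, φ ≠ 1 → ψ ≠ 1 → IsLeft φ → IsRight ψ →
      Cfsg.indFun (W₁ ⊔ W₂) (alpha φ ψ) = χ 1 - χ φ - χ ψ + χ (φ * ψ) := by
    intro φ ψ a b hφ hψ
    set i : I := ⟨φ, hφ, a⟩
    set j : J := ⟨ψ, hψ, b⟩
    have e := (ht i j).eq_sum
    have e' : supp (dfun W₁ W₂ i.1 j.1) = {R i, C j, X i j} := (hT' i j).1
    obtain ⟨-, n1, n2, n3⟩ := hT' i j
    rw [e', Finset.sum_insert (by simp [n1, n2]), Finset.sum_pair n3] at e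
    have c1 : χ φ = -(R i).val := by
      rw [show φ = U (Sum.inl (Sum.inl i)) from rfl, hχU, ← SPt.neg_val]; rfl
    have c2 : χ ψ = -(C j).val := by
      rw [show ψ = U (Sum.inl (Sum.inr j)) from rfl, hχU, ← SPt.neg_val]; rfl
    have c3 : χ (φ * ψ) = (X i j).val := by
      rw [show φ * ψ = U (Sum.inr (i, j)) from rfl, hχU]; rfl
    rw [hχ1, c1, c2, c3]
    rw [dfun, sub_eq_iff_eq_add] at e
    rw [e]
    funext x
    simp only [Pi.add_apply, Pi.sub_apply, Pi.neg_apply]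
    ring
  refine ⟨χ, ⟨fun ω => ?_, fun a b => by rw [horth]; congr!, hχ1, ?_, ?_⟩⟩
  · by_cases a : ω = 1
    · subst a; rw [hχ1]; exact Or.inl isIrrCharacter_one
    · rw [← hkey ω a, hχU]
      unfold SPt.val
      split_ifs
      · exact Or.inl (Subtype.property _)
      · exact Or.inr (by rw [neg_neg]; exact Subtype.property _)
  · intro ω w hw₁ hw₂
    have hcl : Cfsg.IsClassFunction G (χ ω) := by
      by_cases a : ω = 1
      · subst a; rw [hχ1]; exact fun _ _ => rfl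
      · rw [← hkey ω a, hχU]
        unfold SPt.val
        split_ifs
        · exact irr_isClassFunction _
        · exact isGen_isClassFunction (isGen_neg (isGen_of_isCharacter (irr_isCharacter _)))
    refine sub_eq_zero.1 (eq_zero_of_orth hS hcm (fun x => χ ω x - (ω x : ℂ)) ?_ hw₁ hw₂)
    intro φ ψ hφ hψ a b
    rw [classInner_conj_symm (alpha φ ψ), map_eq_zero]
    have h := frobenius_reciprocity (W₁ ⊔ W₂) (alpha φ ψ) hcl
    rw [hind φ ψ a b hφ hψ] at h
    simp only [classInner_add_left, classInner_sub_left, horth] at h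
    rw [show (fun x : ↥(W₁ ⊔ W₂) => χ ω x - (ω x : ℂ)) =
      (fun x : ↥(W₁ ⊔ W₂) => χ ω x) - fun x => (ω x : ℂ) from rfl, classInner_sub_right, ← h,
      alpha_eq]
    simp only [classInner_add_left, classInner_sub_left, inner_linear]
    ring
  · intro φ ψ a b hφ hψ
    refine (hind φ ψ a b hφ hψ).trans ?_
    rw [hχ1]; rfl

end Exists

end Cfsg.Agent.OddChar.CyclicTI
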