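import Cfsg.Agent.OddChar.CyclicTI.Basic

/-!
# Counting the characters trivial on one factor
-/

set_option linter.style.haveILetI false

namespace Cfsg.Agent.OddChar.CyclicTI

universe u

variable {G : Type u} [Group G] [Finite G] {W₁ W₂ : Subgroup G}

theorem card_dual {K : Subgroup G} (hK : ∀ a ∈ K, ∀ b ∈ K, a * b = b * a) :
    Nat.card (K →* ℂˣ) = Nat.card K := by
  letI : CommGroup K :=
    { (inferInstance : Group K) with mul_comm := fun a b => Subtype.ext (hK a a.2 b b.2) }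
  exact CommGroup.card_monoidHom_of_hasEnoughRootsOfUnity K ℂ

theorem comm_of_le {K : Subgroup G} (hW : ∀ a b : ↥(W₁ ⊔ W₂), a * b = b * a) (hK : K ≤ W₁ ⊔ W₂) :
    ∀ a ∈ K, ∀ b ∈ K, a * b = b * a :=
  fun a ha b hb => congrArg Subtype.val (hW ⟨a, hK ha⟩ ⟨b, hK hb⟩)

theorem card_left (hS : Split W₁ W₂) (hW : ∀ a b : ↥(W₁ ⊔ W₂), a * b = b * a) :
    Nat.card {φ : ↥(W₁ ⊔ W₂) →* ℂˣ // IsLeft φ} = Nat.card W₁ := by
  rw [← card_dual (comm_of_le hW le_sup_left)]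
  refine Nat.card_eq_of_bijective (fun φ => φ.1.comp (Subgroup.inclusion le_sup_left)) ⟨?_, ?_⟩
  · intro φ φ' h
    refine Subtype.ext (MonoidHom.ext fun w => ?_)
    obtain ⟨a, b, ha, hb, rfl⟩ := hS.exists_mul w
    rw [map_mul, map_mul, φ.2 b hb, φ'.2 b hb]
    have := DFunLike.congr_fun h ⟨a, ha⟩
    simp only [MonoidHom.comp_apply] at this
    rw [show (Subgroup.inclusion le_sup_left ⟨(a : G), ha⟩ : ↥(W₁ ⊔ W₂)) = a from rfl] at this
    rw [this]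
  · intro f
    refine ⟨⟨f.comp ((MonoidHom.fst W₁ W₂).comp hS.prodEquiv.symm.toMonoidHom), fun w hw => ?_⟩,
      MonoidHom.ext fun a => ?_⟩
    · have e : w = hS.prodEquiv (1, ⟨(w : G), hw⟩) := Subtype.ext (by simp [hS.prodEquiv_coe])
      rw [e]; simp
    · have e : (Subgroup.inclusion le_sup_left a : ↥(W₁ ⊔ W₂)) = hS.prodEquiv (a, 1) :=
        Subtype.ext (by simp [hS.prodEquiv_coe])
      show f (hS.prodEquiv.symm (Subgroup.inclusion le_sup_left a)).1 = f a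
      rw [e, MulEquiv.symm_apply_apply]

theorem card_right (hS : Split W₁ W₂) (hW : ∀ a b : ↥(W₁ ⊔ W₂), a * b = b * a) :
    Nat.card {φ : ↥(W₁ ⊔ W₂) →* ℂˣ // IsRight φ} = Nat.card W₂ := by
  rw [← card_dual (comm_of_le hW le_sup_right)]
  refine Nat.card_eq_of_bijective (fun φ => φ.1.comp (Subgroup.inclusion le_sup_right)) ⟨?_, ?_⟩
  · intro φ φ' h
    refine Subtype.ext (MonoidHom.ext fun w => ?_)
    obtain ⟨a, b, ha, hb, rfl⟩ := hS.exists_mul w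
    rw [map_mul, map_mul, φ.2 a ha, φ'.2 a ha]
    have := DFunLike.congr_fun h ⟨b, hb⟩
    simp only [MonoidHom.comp_apply] at this
    rw [show (Subgroup.inclusion le_sup_right ⟨(b : G), hb⟩ : ↥(W₁ ⊔ W₂)) = b from rfl] at this
    rw [this]
  · intro f
    refine ⟨⟨f.comp ((MonoidHom.snd W₁ W₂).comp hS.prodEquiv.symm.toMonoidHom), fun w hw => ?_⟩,
      MonoidHom.ext fun a => ?_⟩
    · have e : w = hS.prodEquiv (⟨(w : G), hw⟩, 1) := Subtype.ext (by simp [hS.prodEquiv_coe])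
      rw [e]; simp
    · have e : (Subgroup.inclusion le_sup_right a : ↥(W₁ ⊔ W₂)) = hS.prodEquiv (1, a) :=
        Subtype.ext (by simp [hS.prodEquiv_coe])
      show f (hS.prodEquiv.symm (Subgroup.inclusion le_sup_right a)).2 = f a
      rw [e, MulEquiv.symm_apply_apply]

theorem relation_of_vanish [Fintype G] (hW : Cfsg.IsSelfNormalizingCyclic W₁ W₂)
    {χ : (↥(W₁ ⊔ W₂) →* ℂˣ) → (G → ℂ)} (hχ : Cfsg.IsCyclicTIFamily W₁ W₂ χ)
    {θ : G → ℂ} (hθ : Cfsg.IsClassFunction G θ)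
    (hθV : ∀ w : ↥(W₁ ⊔ W₂), (w : G) ∉ W₁ → (w : G) ∉ W₂ → θ w = 0)
    {φ ψ : ↥(W₁ ⊔ W₂) →* ℂˣ} (hφ : IsLeft φ) (hψ : IsRight ψ) :
    Cfsg.classInner θ (χ (φ * ψ)) =
      Cfsg.classInner θ (χ φ) + Cfsg.classInner θ (χ ψ) - Cfsg.classInner θ (χ 1) := by
  classical
  haveI := Fintype.ofFinite ↥(W₁ ⊔ W₂)
  by_cases h1 : φ = 1
  · rw [h1, show (1 : ↥(W₁ ⊔ W₂) →* ℂˣ) * ψ = ψ from one_mul ψ]; ring
  by_cases h2 : ψ = 1
  · rw [h2, show φ * (1 : ↥(W₁ ⊔ W₂) →* ℂˣ) = φ from mul_one φ]; ring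
  have h0 : Cfsg.classInner (Cfsg.indFun (W₁ ⊔ W₂) (alpha φ ψ)) θ = 0 := by
    rw [Characters.frobenius_reciprocity _ _ hθ, Characters.classInner_def]
    rw [Finset.sum_eq_zero, mul_zero]
    intro w _
    by_cases h : (w : G) ∈ W₁ ∨ (w : G) ∈ W₂
    · rw [alpha_eq_zero hφ hψ h, zero_mul]
    · push Not at h
      rw [hθV w h.1 h.2, map_zero, mul_zero]
  have he : Cfsg.indFun (W₁ ⊔ W₂) (alpha φ ψ) = χ 1 - χ φ - χ ψ + χ (φ * ψ) := by
    refine (hχ.induced_eq φ ψ h1 h2 hφ hψ).trans ?_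
    rw [hχ.map_one]; rfl
  rw [he, Characters.classInner_conj_symm θ, map_eq_zero] at h0
  simp only [Characters.classInner_add_right, Characters.classInner_sub_right] at h0
  linear_combination h0

end Cfsg.Agent.OddChar.CyclicTI
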