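import Cfsg.Agent.OddChar.CyclicTI.Basic
import Cfsg.Agent.OddChar.Signed
import Cfsg.Agent.OddChar.PowTwist
import Cfsg.Agent.Lib.Characters.Galois

/-!
# Rigidity of the family attached to a self-normalising cyclic subgroup
-/

set_option linter.style.haveILetI false

namespace Cfsg.Agent.OddChar.CyclicTI

open Cfsg.Agent.Characters
open scoped ComplexConjugate

universe u

variable {G : Type u} [Group G] [Fintype G] {W₁ W₂ : Subgroup G}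

omit [Fintype G] in
theorem exists_mem_ne_one {H : Subgroup G} (h : H ≠ ⊥) : ∃ x, x ∈ H ∧ x ≠ 1 := by
  obtain ⟨x, hx⟩ := Subgroup.ne_bot_iff_exists_ne_one.1 h
  exact ⟨x, x.2, fun e => hx (Subtype.ext e)⟩

omit [Fintype G] in
theorem eq_of_agree (hS : Split W₁ W₂) (hcm : ∀ a b : ↥(W₁ ⊔ W₂), a * b = b * a)
    (h₁ : W₁ ≠ ⊥) (h₂ : W₂ ≠ ⊥) (hodd : Odd (Nat.card ↥(W₁ ⊔ W₂))) [Finite G]
    (ω ω' : ↥(W₁ ⊔ W₂) →* ℂˣ) (s : ℂ)
    (h : ∀ w : ↥(W₁ ⊔ W₂), (w : G) ∉ W₁ → (w : G) ∉ W₂ → (ω w : ℂ) = s * (ω' w : ℂ)) :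
    ω = ω' ∧ s = 1 := by
  have hsq : ∀ a : ↥(W₁ ⊔ W₂), (a : G) ≠ 1 → (a : G) * a ≠ 1 := by
    intro a ha e
    have h2 : orderOf a ∣ 2 := orderOf_dvd_of_pow_eq_one (Subtype.ext (by
      rw [SubmonoidClass.coe_pow, sq]; exact e))
    have h1 : orderOf a = 1 := by
      obtain ⟨k, hk⟩ := hodd.of_dvd_nat (orderOf_dvd_natCard a)
      have := Nat.le_of_dvd (by norm_num) h2
      omega
    exact ha (by rw [orderOf_eq_one_iff.1 h1]; rfl)
  set μ : ↥(W₁ ⊔ W₂) →* ℂˣ := ω * ω'⁻¹ with hμ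
  have hμs : ∀ a b : ↥(W₁ ⊔ W₂), (a : G) ∈ W₁ → (b : G) ∈ W₂ → (a : G) ≠ 1 → (b : G) ≠ 1 →
      (μ a : ℂ) * μ b = s := by
    intro a b ha hb ha1 hb1
    have n1 : ((a * b : ↥(W₁ ⊔ W₂)) : G) ∉ W₁ := fun hm => hb1 (by
      have : (b : G) ∈ W₁ ⊓ W₂ := ⟨by
        have := W₁.mul_mem (W₁.inv_mem ha) hm
        simpa using this, hb⟩
      rwa [hS.disj, Subgroup.mem_bot] at this)
    have n2 : ((a * b : ↥(W₁ ⊔ W₂)) : G) ∉ W₂ := fun hm => ha1 (by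
      have : (a : G) ∈ W₁ ⊓ W₂ := ⟨ha, by
        have := W₂.mul_mem hm (W₂.inv_mem hb)
        simpa using this⟩
      rwa [hS.disj, Subgroup.mem_bot] at this)
    rw [← Units.val_mul, ← map_mul, hμ, MonoidHom.mul_apply, MonoidHom.inv_apply, Units.val_mul,
      h _ n1 n2, mul_assoc]
    simp
    field_simp
  obtain ⟨a₀, ha₀, ha₀1⟩ := exists_mem_ne_one h₁
  obtain ⟨b₀, hb₀, hb₀1⟩ := exists_mem_ne_one h₂
  set a₁ : ↥(W₁ ⊔ W₂) := ⟨a₀, Subgroup.mem_sup_left ha₀⟩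
  set b₁ : ↥(W₁ ⊔ W₂) := ⟨b₀, Subgroup.mem_sup_right hb₀⟩
  have hA : ∀ a : ↥(W₁ ⊔ W₂), (a : G) ∈ W₁ → μ a = 1 := by
    intro a ha
    by_cases ha1 : (a : G) = 1
    · rw [show a = 1 from Subtype.ext ha1, map_one]
    have e1 := hμs a b₁ ha hb₀ ha1 hb₀1
    have e2 := hμs (a * a) b₁ (W₁.mul_mem ha ha) hb₀ (hsq a ha1) hb₀1
    rw [map_mul, Units.val_mul, ← e1] at e2
    refine Units.ext ?_
    exact mul_left_cancel₀ (Units.ne_zero (μ a))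
      (mul_right_cancel₀ (Units.ne_zero (μ b₁)) (e2.trans (by simp)))
  have hB : ∀ b : ↥(W₁ ⊔ W₂), (b : G) ∈ W₂ → μ b = 1 := by
    intro b hb
    by_cases hb1 : (b : G) = 1
    · rw [show b = 1 from Subtype.ext hb1, map_one]
    have e1 := hμs a₁ b ha₀ hb ha₀1 hb1
    have e2 := hμs a₁ (b * b) ha₀ (W₂.mul_mem hb hb) ha₀1 (hsq b hb1)
    rw [hA a₁ ha₀, Units.val_one, one_mul] at e1 e2
    rw [map_mul, Units.val_mul, ← e1] at e2
    exact Units.ext (mul_left_cancel₀ (Units.ne_zero (μ b)) (e2.trans (by simp)))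
  have hμ1 : μ = 1 := MonoidHom.ext fun w => by
    obtain ⟨a, b, ha, hb, rfl⟩ := hS.exists_mul w
    rw [map_mul, hA a ha, hB b hb]; simp
  refine ⟨?_, ?_⟩
  · rw [hμ] at hμ1
    exact mul_inv_eq_one.1 hμ1
  · rw [← hμs a₁ b₁ ha₀ hb₀ ha₀1 hb₀1, hA a₁ ha₀, hB b₁ hb₀]; simp

/-- A signed irreducible agreeing with a linear character off the factors is the family member. -/
theorem eq_family (hW : Cfsg.IsSelfNormalizingCyclic W₁ W₂)
    (hodd : Odd (Nat.card ↥(W₁ ⊔ W₂))) {χ : (↥(W₁ ⊔ W₂) →* ℂˣ) → (G → ℂ)}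
    (hχ : Cfsg.IsCyclicTIFamily W₁ W₂ χ) {θ : G → ℂ} (hθ : Signed.IsSIrr θ)
    (ω : ↥(W₁ ⊔ W₂) →* ℂˣ)
    (h : ∀ w : ↥(W₁ ⊔ W₂), (w : G) ∉ W₁ → (w : G) ∉ W₂ → θ w = (ω w : ℂ)) : θ = χ ω := by
  classical
  haveI := Fintype.ofFinite ↥(W₁ ⊔ W₂)
  have hS := split_of hW
  have hcm := comm_of hW
  have hcl := isGen_isClassFunction hθ.isGen
  obtain ⟨ω', hω'⟩ : ∃ ω', Cfsg.classInner θ (χ ω') ≠ 0 := by
    by_contra hc
    push Not at hc
    obtain ⟨a₀, ha₀, ha₀1⟩ := exists_mem_ne_one hW.1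
    obtain ⟨b₀, hb₀, hb₀1⟩ := exists_mem_ne_one hW.2.1
    set w : ↥(W₁ ⊔ W₂) := ⟨a₀ * b₀, Subgroup.mul_mem_sup ha₀ hb₀⟩
    have n1 : (w : G) ∉ W₁ := fun hm => hb₀1 (by
      have : b₀ ∈ W₁ ⊓ W₂ := ⟨by simpa [w] using W₁.mul_mem (W₁.inv_mem ha₀) hm, hb₀⟩
      rwa [hS.disj, Subgroup.mem_bot] at this)
    have n2 : (w : G) ∉ W₂ := fun hm => ha₀1 (by
      have : a₀ ∈ W₁ ⊓ W₂ := ⟨ha₀, by simpa [w] using W₂.mul_mem hm (W₂.inv_mem hb₀)⟩
      rwa [hS.disj, Subgroup.mem_bot] at this)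
    have h0 : θ w = 0 := by
      refine eq_zero_of_orth hS hcm (fun v => θ v) ?_ n1 n2
      intro φ ψ hφ hψ h1 h2
      have hor : ∀ ω, Cfsg.classInner (χ ω) θ = 0 := fun ω => by
        rw [classInner_conj_symm θ, hc ω, map_zero]
      have he : Cfsg.indFun (W₁ ⊔ W₂) (alpha φ ψ) = χ 1 - χ φ - χ ψ + χ (φ * ψ) := by
        refine (hχ.induced_eq φ ψ h1 h2 hφ hψ).trans ?_
        rw [hχ.map_one]; rfl
      have hf := frobenius_reciprocity (W₁ ⊔ W₂) (alpha φ ψ) hcl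
      rw [he] at hf
      simp only [classInner_add_left, classInner_sub_left, hor, sub_zero, add_zero] at hf
      rw [classInner_conj_symm (alpha φ ψ), ← hf, map_zero]
    rw [h w n1 n2] at h0
    exact Units.ne_zero _ h0
  obtain ⟨s, rfl⟩ : ∃ s : ℂ, θ = s • χ ω' := by
    rcases (hθ.inner_cases (hχ.irr_or_neg ω')).resolve_left hω' with e | e
    · exact ⟨1, by simp [e]⟩
    · exact ⟨-1, by simp [e]⟩
  obtain ⟨e1, e2⟩ := eq_of_agree hS hcm hW.1 hW.2.1 hodd ω ω' s fun w n1 n2 => by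
    rw [← h w n1 n2, Pi.smul_apply, hχ.eq_on ω' w n1 n2, smul_eq_mul]
  rw [e1, e2, one_smul]

/-- Power twists permute the family as they permute the linear characters. -/
theorem family_comp_pow (hW : Cfsg.IsSelfNormalizingCyclic W₁ W₂)
    (hodd : Odd (Nat.card ↥(W₁ ⊔ W₂))) {χ : (↥(W₁ ⊔ W₂) →* ℂˣ) → (G → ℂ)}
    (hχ : Cfsg.IsCyclicTIFamily W₁ W₂ χ) (ω : ↥(W₁ ⊔ W₂) →* ℂˣ) {k : ℕ}
    (hk : k.Coprime (Nat.card G)) : (fun g => χ ω (g ^ k)) = χ (ω ^ k) := by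
  refine eq_family hW hodd hχ ?_ _ ?_
  · rcases hχ.irr_or_neg ω with h | h
    · exact Or.inl (PowTwist.isIrr_comp_pow h hk)
    · exact Or.inr (PowTwist.isIrr_comp_pow h hk)
  · intro w n1 n2
    obtain ⟨m, hm⟩ := exists_pow_eq_self_of_coprime (x := (w : G)) (n := k)
      (hk.coprime_dvd_right (orderOf_dvd_natCard _))
    have e1 : ((w ^ k : ↥(W₁ ⊔ W₂)) : G) ∉ W₁ := fun hmem => n1 (by
      have := W₁.pow_mem hmem m; rwa [SubmonoidClass.coe_pow, hm] at this)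
    have e2 : ((w ^ k : ↥(W₁ ⊔ W₂)) : G) ∉ W₂ := fun hmem => n2 (by
      have := W₂.pow_mem hmem m; rwa [SubmonoidClass.coe_pow, hm] at this)
    have := hχ.eq_on ω (w ^ k) e1 e2
    rw [SubmonoidClass.coe_pow] at this
    rw [this]
    simp [map_pow]

/-- A value prime to the order of `ω` is rational. -/
theorem family_value_int (hW : Cfsg.IsSelfNormalizingCyclic W₁ W₂)
    (hodd : Odd (Nat.card ↥(W₁ ⊔ W₂))) {χ : (↥(W₁ ⊔ W₂) →* ℂˣ) → (G → ℂ)}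
    (hχ : Cfsg.IsCyclicTIFamily W₁ W₂ χ) (ω : ↥(W₁ ⊔ W₂) →* ℂˣ) (g : G)
    (hg : Nat.Coprime (orderOf g) (orderOf ω)) : ∃ n : ℤ, χ ω g = n := by
  classical
  set n := Nat.card G with hn
  set d := orderOf g with hd
  set e := orderOf ω with he
  haveI : NeZero n := ⟨Nat.card_pos.ne'⟩
  have hd0 : 0 < d := orderOf_pos g
  haveI : NeZero d := ⟨hd0.ne'⟩
  have hen : e ∣ n := by
    refine Dvd.dvd.trans ?_ (W₁ ⊔ W₂).card_subgroup_dvd_card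
    refine orderOf_dvd_of_pow_eq_one (MonoidHom.ext fun w => ?_)
    rw [MonoidHom.pow_apply, ← map_pow, pow_card_eq_one', map_one]; rfl
  have hde : d * e ∣ n := hg.mul_dvd_of_dvd_of_dvd (orderOf_dvd_natCard g) hen
  haveI : NeZero (d * e) := ⟨fun h => (Nat.card_pos (α := G)).ne'
    (Nat.eq_zero_of_zero_dvd (h ▸ hde))⟩
  have key : ∀ j : ℕ, j.Coprime d → χ ω (g ^ j) = χ ω g := by
    intro j hj
    obtain ⟨i, hi1, hi2⟩ := Nat.chineseRemainder hg j 1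
    have hicop : i.Coprime (d * e) := by
      rw [Nat.coprime_mul_iff_right]
      refine ⟨?_, ?_⟩
      · rw [Nat.coprime_iff_gcd_eq_one, Nat.ModEq.gcd_eq hi1]; exact hj
      · rw [Nat.coprime_iff_gcd_eq_one, Nat.ModEq.gcd_eq hi2, Nat.gcd_one_left]
    obtain ⟨u, hu⟩ := ZMod.unitsMap_surjective hde (ZMod.unitOfCoprime i hicop)
    set k := (u : ZMod n).val with hk
    have hkn : k.Coprime n := ZMod.val_coe_unit_coprime u
    have hki : k ≡ i [MOD d * e] := by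
      rw [← ZMod.natCast_eq_natCast_iff]
      have h1 := congrArg (fun v : (ZMod (d * e))ˣ => (v : ZMod (d * e))) hu
      simp only [ZMod.unitsMap_def, Units.coe_map, ZMod.coe_unitOfCoprime] at h1
      rw [hk, ← h1]
      simp [ZMod.natCast_val]
    have hωk : ω ^ k = ω := by
      have h1 : k % e = 1 % e := (hki.of_dvd (dvd_mul_left e d)).trans hi2
      rw [← pow_mod_orderOf ω k, ← he, h1, he, pow_mod_orderOf, pow_one]
    have hgk : g ^ k = g ^ j :=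
      pow_eq_pow_iff_modEq.2 ((hki.of_dvd (dvd_mul_right _ _)).trans hi1)
    have := congrFun (family_comp_pow hW hodd hχ ω hkn) g
    rw [hωk] at this
    rw [← hgk]; exact this
  -- a rational algebraic integer
  obtain ⟨ψ, sgn, hsgn, hψ, hval⟩ : ∃ (ψ : G → ℂ) (z : ℤ), (z = 1 ∨ z = -1) ∧
      Cfsg.IsIrrCharacter G ψ ∧ ∀ x, χ ω x = (z : ℂ) * ψ x := by
    rcases hχ.irr_or_neg ω with h | h
    · exact ⟨χ ω, 1, Or.inl rfl, h, fun x => by simp⟩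
    · exact ⟨-χ ω, -1, Or.inr rfl, h, fun x => by simp⟩
  obtain ⟨m, ρ, _, hρ⟩ := hψ
  set ζ := Complex.exp (2 * Real.pi * Complex.I / d)
  have hζ : IsPrimitiveRoot ζ d := Complex.isPrimitiveRoot_exp d hd0.ne'
  obtain ⟨P, hP⟩ := exists_poly_values ρ g hd0 (pow_orderOf_eq_one g) hζ
  have hsgn0 : (sgn : ℂ) ≠ 0 := by rcases hsgn with h | h <;> simp [h]
  have hall : ∀ μ ∈ primitiveRoots d ℂ, Polynomial.aeval μ P = ψ g := by
    intro μ hμ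
    obtain ⟨j, _, hj, rfl⟩ := (hζ.isPrimitiveRoot_iff (ξ := μ) (k := d)).1
      ((mem_primitiveRoots hd0).1 hμ)
    rw [← hP, hρ]
    have h1 := key j hj
    rw [hval, hval] at h1
    exact mul_left_cancel₀ hsgn0 h1
  obtain ⟨q, hq⟩ := (exists_rat_sum_prod_primitiveRoots hd0 P).1
  rw [Finset.sum_congr rfl hall, Finset.sum_const, nsmul_eq_mul] at hq
  have hc : ((primitiveRoots d ℂ).card : ℂ) ≠ 0 := by
    exact_mod_cast (Finset.card_pos.2 ⟨ζ, (mem_primitiveRoots hd0).2 hζ⟩).ne'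
  have hqe : ψ g = ((q / (primitiveRoots d ℂ).card : ℚ) : ℂ) := by
    rw [Rat.cast_div, Rat.cast_natCast, eq_div_iff hc, ← hq, mul_comm]
  have hint : IsIntegral ℤ (ψ g) := by
    rw [← hρ]; exact rep_value_isIntegral ρ g
  obtain ⟨z, hz⟩ := exists_int_of_isIntegral_ratCast (hqe ▸ hint)
  exact ⟨sgn * z, by rw [hval, hqe, hz]; push_cast; ring⟩

end Cfsg.Agent.OddChar.CyclicTI
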