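import Cfsg.Prelude.Def_OddOrderChar
import Cfsg.Prelude.Def_OddOrderLocal
import Cfsg.Agent.Lib.Characters.Kernel
import Cfsg.Agent.OddChar.Induce
import Mathlib

/-!
# Characters of a direct product `W₁ × W₂` of subgroups, and self-normalising cyclic subgroups
-/

set_option linter.style.haveILetI false

namespace Cfsg.Agent.OddChar.CyclicTI

open Cfsg.Agent.Characters
open scoped ComplexConjugate Pointwise

universe u

variable {G : Type u} [Group G] {W₁ W₂ : Subgroup G}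

/-- The two factors meet trivially and commute. -/
structure Split (W₁ W₂ : Subgroup G) : Prop where
  disj : W₁ ⊓ W₂ = ⊥
  comm : ∀ a ∈ W₁, ∀ b ∈ W₂, a * b = b * a

/-- The homomorphism is trivial on the second factor. -/
def IsLeft (φ : ↥(W₁ ⊔ W₂) →* ℂˣ) : Prop := ∀ w : ↥(W₁ ⊔ W₂), (w : G) ∈ W₂ → φ w = 1

/-- The homomorphism is trivial on the first factor. -/
def IsRight (ψ : ↥(W₁ ⊔ W₂) →* ℂˣ) : Prop := ∀ w : ↥(W₁ ⊔ W₂), (w : G) ∈ W₁ → ψ w = 1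

theorem isLeft_one : IsLeft (1 : ↥(W₁ ⊔ W₂) →* ℂˣ) := fun _ _ => rfl
theorem isRight_one : IsRight (1 : ↥(W₁ ⊔ W₂) →* ℂˣ) := fun _ _ => rfl

/-- `(1 - φ)(1 - ψ)`. -/
def alpha (φ ψ : ↥(W₁ ⊔ W₂) →* ℂˣ) : ↥(W₁ ⊔ W₂) → ℂ :=
  fun w => 1 - (φ w : ℂ) - (ψ w : ℂ) + (φ w : ℂ) * (ψ w : ℂ)

theorem alpha_eq_zero {φ ψ : ↥(W₁ ⊔ W₂) →* ℂˣ} (hφ : IsLeft φ) (hψ : IsRight ψ)
    {w : ↥(W₁ ⊔ W₂)} (hw : (w : G) ∈ W₁ ∨ (w : G) ∈ W₂) : alpha φ ψ w = 0 := by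
  rcases hw with h | h
  · simp only [alpha, hψ w h, Units.val_one]; ring
  · simp only [alpha, hφ w h, Units.val_one]; ring

theorem alpha_eq (φ ψ : ↥(W₁ ⊔ W₂) →* ℂˣ) :
    alpha φ ψ = (fun w => ((1 : ↥(W₁ ⊔ W₂) →* ℂˣ) w : ℂ)) - (fun w => (φ w : ℂ)) -
      (fun w => (ψ w : ℂ)) + (fun w => ((φ * ψ) w : ℂ)) := by
  funext w
  simp [alpha]

namespace Split

variable (hS : Split W₁ W₂)
include hS

/-- The product map onto `W₁ ⊔ W₂`. -/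
noncomputable def prodEquiv : W₁ × W₂ ≃* ↥(W₁ ⊔ W₂) :=
  MulEquiv.ofBijective
    (MonoidHom.mk' (fun p : W₁ × W₂ =>
      (⟨(p.1 : G) * p.2, Subgroup.mul_mem_sup p.1.2 p.2.2⟩ : ↥(W₁ ⊔ W₂)))
      (fun p q => Subtype.ext (by
        simp only [Prod.fst_mul, Prod.snd_mul, Subgroup.coe_mul]
        rw [mul_assoc (p.1 : G), ← mul_assoc (q.1 : G), hS.comm q.1 q.1.2 p.2 p.2.2,
          mul_assoc (p.2 : G), ← mul_assoc (p.1 : G)])))
    ⟨fun p q h => by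
      have e : (p.1 : G) * p.2 = q.1 * q.2 := congrArg Subtype.val h
      have e2 : (q.1 : G)⁻¹ * p.1 = (q.2 : G) * (p.2 : G)⁻¹ := by
        rw [inv_mul_eq_iff_eq_mul, ← mul_assoc, ← e, mul_inv_cancel_right]
      have h1 : (q.1 : G)⁻¹ * p.1 ∈ W₁ ⊓ W₂ :=
        ⟨W₁.mul_mem (W₁.inv_mem q.1.2) p.1.2, e2 ▸ W₂.mul_mem q.2.2 (W₂.inv_mem p.2.2)⟩
      rw [hS.disj, Subgroup.mem_bot, inv_mul_eq_one] at h1
      rw [← h1, mul_right_inj] at e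
      exact Prod.ext (Subtype.ext h1.symm) (Subtype.ext e),
    fun w => by
      have hle : W₂ ≤ Subgroup.normalizer (W₁ : Set G) := fun b hb => by
        rw [Subgroup.mem_normalizer_iff]
        refine fun x => ⟨fun hx => ?_, fun hx => ?_⟩
        · rwa [← hS.comm x hx b hb, mul_inv_cancel_right]
        · have := hS.comm _ hx b hb
          rw [inv_mul_cancel_right] at this
          rwa [← mul_left_cancel this] at hx
      have hw : (w : G) ∈ (W₁ : Set G) * (W₂ : Set G) := by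
        rw [← Subgroup.coe_mul_of_right_le_normalizer_left W₁ W₂ hle]
        exact w.2
      obtain ⟨a, ha, b, hb, e⟩ := hw
      exact ⟨(⟨a, ha⟩, ⟨b, hb⟩), Subtype.ext e⟩⟩

theorem prodEquiv_coe (p : W₁ × W₂) : (hS.prodEquiv p : G) = p.1 * p.2 := rfl

theorem exists_mul (w : ↥(W₁ ⊔ W₂)) : ∃ a b : ↥(W₁ ⊔ W₂),
    (a : G) ∈ W₁ ∧ (b : G) ∈ W₂ ∧ w = a * b := by
  obtain ⟨⟨a, b⟩, rfl⟩ := hS.prodEquiv.surjective w
  exact ⟨⟨a, Subgroup.mem_sup_left a.2⟩, ⟨b, Subgroup.mem_sup_right b.2⟩, a.2, b.2, rfl⟩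

theorem mul_inj {φ φ' ψ ψ' : ↥(W₁ ⊔ W₂) →* ℂˣ} (hφ : IsLeft φ) (hφ' : IsLeft φ')
    (hψ : IsRight ψ) (hψ' : IsRight ψ') (h : φ * ψ = φ' * ψ') : φ = φ' ∧ ψ = ψ' := by
  have h1 : ∀ a : ↥(W₁ ⊔ W₂), (a : G) ∈ W₁ → φ a = φ' a := fun a ha => by
    simpa [hψ a ha, hψ' a ha] using DFunLike.congr_fun h a
  have h2 : φ = φ' := MonoidHom.ext fun w => by
    obtain ⟨a, b, ha, hb, rfl⟩ := hS.exists_mul w
    rw [map_mul, map_mul, hφ b hb, hφ' b hb, h1 a ha]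
  exact ⟨h2, mul_left_cancel (h2 ▸ h)⟩

theorem exists_split (ω : ↥(W₁ ⊔ W₂) →* ℂˣ) :
    ∃ φ ψ : ↥(W₁ ⊔ W₂) →* ℂˣ, IsLeft φ ∧ IsRight ψ ∧ ω = φ * ψ := by
  refine ⟨(ω.comp (hS.prodEquiv.toMonoidHom.comp (MonoidHom.inl W₁ W₂))).comp
      ((MonoidHom.fst W₁ W₂).comp hS.prodEquiv.symm.toMonoidHom),
    (ω.comp (hS.prodEquiv.toMonoidHom.comp (MonoidHom.inr W₁ W₂))).comp
      ((MonoidHom.snd W₁ W₂).comp hS.prodEquiv.symm.toMonoidHom), ?_, ?_, ?_⟩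
  · intro w hw
    obtain ⟨⟨a, b⟩, rfl⟩ := hS.prodEquiv.surjective w
    have ha : (a : G) ∈ W₁ ⊓ W₂ := ⟨a.2, by
      have := mul_mem hw (inv_mem b.2)
      rwa [hS.prodEquiv_coe, mul_inv_cancel_right] at this⟩
    rw [hS.disj, Subgroup.mem_bot] at ha
    have : a = 1 := Subtype.ext ha
    simp [this, Prod.mk_one_one]
  · intro w hw
    obtain ⟨⟨a, b⟩, rfl⟩ := hS.prodEquiv.surjective w
    have hb : (b : G) ∈ W₁ ⊓ W₂ := ⟨by
      have := mul_mem (inv_mem a.2) hw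
      rwa [hS.prodEquiv_coe, inv_mul_cancel_left] at this, b.2⟩
    rw [hS.disj, Subgroup.mem_bot] at hb
    have : b = 1 := Subtype.ext hb
    simp [this, Prod.mk_one_one]
  · refine MonoidHom.ext fun w => ?_
    obtain ⟨⟨a, b⟩, rfl⟩ := hS.prodEquiv.surjective w
    simp [← map_mul]

end Split

section Sums

variable [Finite G]

theorem linearIrr_injective :
    Function.Injective (fun ω : ↥(W₁ ⊔ W₂) →* ℂˣ =>
      (⟨fun w => (ω w : ℂ), isIrrCharacter_linear ω⟩ : Cfsg.IrrCharacter ↥(W₁ ⊔ W₂))) :=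
  fun _ _ h => MonoidHom.ext fun w => Units.ext (congrFun (congrArg Subtype.val h) w)

instance finite_linear : Finite (↥(W₁ ⊔ W₂) →* ℂˣ) := Finite.of_injective _ linearIrr_injective

theorem inner_linear [Fintype ↥(W₁ ⊔ W₂)] (ω ω' : ↥(W₁ ⊔ W₂) →* ℂˣ)
    [Decidable (ω = ω')] :
    Cfsg.classInner (fun w => (ω w : ℂ)) (fun w => (ω' w : ℂ)) = if ω = ω' then 1 else 0 := by
  split_ifs with h
  · rw [h]; exact classInner_isIrr_self (isIrrCharacter_linear ω')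
  · exact classInner_isIrr_ne (isIrrCharacter_linear ω) (isIrrCharacter_linear ω')
      fun e => h (MonoidHom.ext fun w => Units.ext (congrFun e w))

open Classical in
/-- The sum of the characters of one factor vanishes off the other one. -/
theorem sum_left_eq_zero [Fintype (↥(W₁ ⊔ W₂) →* ℂˣ)] (hS : Split W₁ W₂)
    (hab : ∀ a ∈ W₁, ∀ b ∈ W₁, a * b = b * a) {w : ↥(W₁ ⊔ W₂)} (hw : (w : G) ∉ W₂) :
    ∑ φ ∈ Finset.univ.filter (fun φ : ↥(W₁ ⊔ W₂) →* ℂˣ => IsLeft φ), (φ w : ℂ) = 0 := by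
  letI : CommGroup W₁ :=
    { (inferInstance : Group W₁) with mul_comm := fun a b => Subtype.ext (hab a a.2 b b.2) }
  obtain ⟨⟨a, b⟩, rfl⟩ := hS.prodEquiv.surjective w
  have ha : a ≠ 1 := fun e => hw (by
    rw [hS.prodEquiv_coe, e, OneMemClass.coe_one, one_mul]; exact b.2)
  obtain ⟨φ₀, hφ₀⟩ := CommGroup.exists_apply_ne_one_of_hasEnoughRootsOfUnity W₁ ℂ ha
  set Φ : ↥(W₁ ⊔ W₂) →* ℂˣ :=
    φ₀.comp ((MonoidHom.fst W₁ W₂).comp hS.prodEquiv.symm.toMonoidHom) with hΦdef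
  have hΦ : IsLeft Φ := fun v hv => by
    obtain ⟨⟨c, d⟩, rfl⟩ := hS.prodEquiv.surjective v
    have hc : (c : G) ∈ W₁ ⊓ W₂ := ⟨c.2, by
      have := mul_mem hv (inv_mem d.2)
      rwa [hS.prodEquiv_coe, mul_inv_cancel_right] at this⟩
    rw [hS.disj, Subgroup.mem_bot] at hc
    simp [hΦdef, show c = 1 from Subtype.ext hc]
  have hne : (Φ (hS.prodEquiv (a, b)) : ℂ) ≠ 1 := by
    simpa [hΦdef, Units.val_eq_one] using hφ₀
  set F := Finset.univ.filter (fun φ : ↥(W₁ ⊔ W₂) →* ℂˣ => IsLeft φ) with hF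
  have hshift : ∑ φ ∈ F, ((Φ * φ) (hS.prodEquiv (a, b)) : ℂ) =
      ∑ φ ∈ F, (φ (hS.prodEquiv (a, b)) : ℂ) := by
    refine Finset.sum_equiv (Equiv.mulLeft Φ) (fun φ => ?_) fun φ _ => rfl
    simp only [hF, Finset.mem_filter, Finset.mem_univ, true_and, Equiv.coe_mulLeft]
    refine ⟨fun h v hv => by simp [hΦ v hv, h v hv], fun h v hv => ?_⟩
    simpa [hΦ v hv] using h v hv
  simp only [MonoidHom.mul_apply, Units.val_mul, ← Finset.mul_sum] at hshift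
  by_contra h0
  exact hne ((mul_eq_right₀ h0).1 hshift)

theorem irr_eq_linear (hW : ∀ a b : ↥(W₁ ⊔ W₂), a * b = b * a)
    (χ : Cfsg.IrrCharacter ↥(W₁ ⊔ W₂)) :
    ∃ ω : ↥(W₁ ⊔ W₂) →* ℂˣ, (χ : ↥(W₁ ⊔ W₂) → ℂ) = fun w => (ω w : ℂ) := by
  refine ⟨linearOfDegreeOne (irr_isCharacter χ) (irr_degree_one_of_comm hW χ.2), ?_⟩
  funext w
  simp [linearOfDegreeOne]

open Classical in
theorem eq_sum_linear [Fintype ↥(W₁ ⊔ W₂)] [Fintype (↥(W₁ ⊔ W₂) →* ℂˣ)]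
    (hW : ∀ a b : ↥(W₁ ⊔ W₂), a * b = b * a) (f : ↥(W₁ ⊔ W₂) → ℂ) (w : ↥(W₁ ⊔ W₂)) :
    f w = ∑ ω : ↥(W₁ ⊔ W₂) →* ℂˣ, Cfsg.classInner f (fun v => (ω v : ℂ)) * (ω w : ℂ) := by
  haveI := Fintype.ofFinite (Cfsg.IrrCharacter ↥(W₁ ⊔ W₂))
  have hf : Cfsg.IsClassFunction ↥(W₁ ⊔ W₂) f := fun g h => by
    rw [hW h g, mul_inv_cancel_right]
  conv_lhs => rw [classFun_eq_sum hf]
  simp only [Finset.sum_apply, Pi.smul_apply, smul_eq_mul]
  refine (Finset.sum_bij (fun (ω : ↥(W₁ ⊔ W₂) →* ℂˣ) _ =>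
    (⟨fun v => (ω v : ℂ), isIrrCharacter_linear ω⟩ : Cfsg.IrrCharacter ↥(W₁ ⊔ W₂)))
    (fun _ _ => Finset.mem_univ _) (fun _ _ _ _ h => linearIrr_injective h) (fun χ _ => ?_)
    fun _ _ => rfl).symm
  obtain ⟨ω, hω⟩ := irr_eq_linear hW χ
  exact ⟨ω, Finset.mem_univ _, Subtype.ext hω.symm⟩

/-- Functions orthogonal to all `(1 - φ)(1 - ψ)` vanish off the two factors. -/
theorem eq_zero_of_orth [Fintype ↥(W₁ ⊔ W₂)] (hS : Split W₁ W₂)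
    (hW : ∀ a b : ↥(W₁ ⊔ W₂), a * b = b * a) (f : ↥(W₁ ⊔ W₂) → ℂ)
    (h : ∀ φ ψ : ↥(W₁ ⊔ W₂) →* ℂˣ, IsLeft φ → IsRight ψ → φ ≠ 1 → ψ ≠ 1 →
      Cfsg.classInner f (alpha φ ψ) = 0)
    {w : ↥(W₁ ⊔ W₂)} (hw₁ : (w : G) ∉ W₁) (hw₂ : (w : G) ∉ W₂) : f w = 0 := by
  classical
  haveI := Fintype.ofFinite (↥(W₁ ⊔ W₂) →* ℂˣ)
  set a : (↥(W₁ ⊔ W₂) →* ℂˣ) → ℂ := fun ω => Cfsg.classInner f (fun v => (ω v : ℂ)) with ha
  have hrel : ∀ φ ψ : ↥(W₁ ⊔ W₂) →* ℂˣ, IsLeft φ → IsRight ψ →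
      a (φ * ψ) = a φ + a ψ - a 1 := by
    intro φ ψ hφ hψ
    by_cases h1 : φ = 1
    · rw [h1, show (1 : ↥(W₁ ⊔ W₂) →* ℂˣ) * ψ = ψ from one_mul ψ]; ring
    by_cases h2 : ψ = 1
    · rw [h2, show φ * (1 : ↥(W₁ ⊔ W₂) →* ℂˣ) = φ from mul_one φ]; ring
    have := h φ ψ hφ hψ h1 h2
    rw [alpha_eq, classInner_add_right, classInner_sub_right, classInner_sub_right] at this
    simp only [ha]
    linear_combination this
  set F₁ := Finset.univ.filter (fun φ : ↥(W₁ ⊔ W₂) →* ℂˣ => IsLeft φ)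
  set F₂ := Finset.univ.filter (fun φ : ↥(W₁ ⊔ W₂) →* ℂˣ => IsRight φ) with hF₂
  rw [eq_sum_linear hW f w]
  have hcomm : ∀ H : Subgroup G, H ≤ W₁ ⊔ W₂ → ∀ x ∈ H, ∀ y ∈ H, x * y = y * x :=
    fun H hH x hx y hy => congrArg Subtype.val (hW ⟨x, hH hx⟩ ⟨y, hH hy⟩)
  have s1 : ∑ φ ∈ F₁, (φ w : ℂ) = 0 := sum_left_eq_zero hS (hcomm W₁ le_sup_left) hw₂
  have s2 : ∑ ψ ∈ F₂, (ψ w : ℂ) = 0 := by
    obtain ⟨x, y, hx, hy, hxy⟩ := hS.exists_mul w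
    have hS' : Split W₂ W₁ := ⟨by rw [inf_comm]; exact hS.disj, fun a ha b hb => (hS.comm b hb a ha).symm⟩
    have key : ∀ (S : Subgroup G), S = W₁ ⊔ W₂ → ∀ (v : S), (v : G) = w →
        ∑ ψ ∈ Finset.univ.filter (fun ψ : ↥(W₁ ⊔ W₂) →* ℂˣ => IsRight ψ), (ψ w : ℂ) =
          ∑ ψ ∈ (Set.toFinite {ψ : S →* ℂˣ | ∀ z : S, (z : G) ∈ W₁ → ψ z = 1}).toFinset,
            (ψ v : ℂ) := by
      rintro S rfl v hv
      obtain rfl : v = w := Subtype.ext hv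
      refine Finset.sum_congr ?_ fun _ _ => rfl
      ext ψ; simp [IsRight]
    rw [hF₂, key (W₂ ⊔ W₁) (sup_comm W₂ W₁) ⟨w, by rw [sup_comm]; exact w.2⟩ rfl]
    haveI := Fintype.ofFinite (↥(W₂ ⊔ W₁) →* ℂˣ)
    refine Eq.trans (Finset.sum_congr ?_ fun _ _ => rfl)
      (sum_left_eq_zero hS' (hcomm W₂ le_sup_right) (w := ⟨w, by rw [sup_comm]; exact w.2⟩) hw₁)
    ext ψ; simp [IsLeft]
  calc ∑ ω : ↥(W₁ ⊔ W₂) →* ℂˣ, a ω * (ω w : ℂ)
      = ∑ p ∈ F₁ ×ˢ F₂, a (p.1 * p.2) * ((p.1 * p.2) w : ℂ) := by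
        refine (Finset.sum_bij (fun p _ => p.1 * p.2) (fun _ _ => Finset.mem_univ _) ?_ ?_
          fun _ _ => rfl).symm
        · intro p hp q hq he
          obtain ⟨hp1, hp2⟩ := Finset.mem_product.1 hp
          obtain ⟨hq1, hq2⟩ := Finset.mem_product.1 hq
          obtain ⟨e1, e2⟩ := hS.mul_inj (Finset.mem_filter.1 hp1).2 (Finset.mem_filter.1 hq1).2
            (Finset.mem_filter.1 hp2).2 (Finset.mem_filter.1 hq2).2 he
          exact Prod.ext e1 e2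
        · intro ω _
          obtain ⟨φ, ψ, hφ, hψ, rfl⟩ := hS.exists_split ω
          exact ⟨(φ, ψ), Finset.mem_product.2 ⟨Finset.mem_filter.2 ⟨Finset.mem_univ _, hφ⟩,
            Finset.mem_filter.2 ⟨Finset.mem_univ _, hψ⟩⟩, rfl⟩
    _ = ∑ φ ∈ F₁, ∑ ψ ∈ F₂, ((a φ - a 1) * (φ w : ℂ) * (ψ w : ℂ) +
          (φ w : ℂ) * (a ψ * (ψ w : ℂ))) := by
        rw [Finset.sum_product]
        refine Finset.sum_congr rfl fun φ hφ => Finset.sum_congr rfl fun ψ hψ => ?_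
        rw [hrel φ ψ (Finset.mem_filter.1 hφ).2 (Finset.mem_filter.1 hψ).2, MonoidHom.mul_apply,
          Units.val_mul]
        ring
    _ = 0 := by
        simp only [Finset.sum_add_distrib, ← Finset.mul_sum, s2, mul_zero, Finset.sum_const_zero,
          ← Finset.sum_mul, s1, zero_mul, add_zero]

open Classical in
theorem inner_alpha [Fintype ↥(W₁ ⊔ W₂)] (hS : Split W₁ W₂) {φ φ' ψ ψ' : ↥(W₁ ⊔ W₂) →* ℂˣ}
    (hφ : IsLeft φ) (hφ' : IsLeft φ') (hψ : IsRight ψ) (hψ' : IsRight ψ')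
    (h1 : φ ≠ 1) (h1' : φ' ≠ 1) (h2 : ψ ≠ 1) (h2' : ψ' ≠ 1) :
    Cfsg.classInner (alpha φ ψ) (alpha φ' ψ') =
      1 + (if φ = φ' then 1 else 0) + (if ψ = ψ' then 1 else 0) +
        (if φ = φ' then 1 else 0) * (if ψ = ψ' then 1 else 0) := by
  have hmi : ∀ {a a' b b' : ↥(W₁ ⊔ W₂) →* ℂˣ}, IsLeft a → IsLeft a' → IsRight b → IsRight b' →
      (a * b = a' * b' ↔ a = a' ∧ b = b') := fun ha ha' hb hb' =>
    ⟨hS.mul_inj ha ha' hb hb', fun h => by rw [h.1, h.2]⟩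
  have n1 : ∀ {a b : ↥(W₁ ⊔ W₂) →* ℂˣ}, IsLeft a → IsRight b → a ≠ 1 → a ≠ b := by
    intro a b ha hb hne e
    have := (hmi ha isLeft_one isRight_one hb).1 ((mul_one a).trans (e.trans (one_mul b).symm))
    exact hne this.1
  have n2 : ∀ {a b : ↥(W₁ ⊔ W₂) →* ℂˣ}, IsLeft a → IsRight b → a ≠ 1 → a * b ≠ 1 := by
    intro a b ha hb hne e
    exact hne ((hmi ha isLeft_one hb isRight_one).1 (e.trans (one_mul (1 : ↥(W₁ ⊔ W₂) →* ℂˣ)).symm)).1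
  have n3 : ∀ {a a' b : ↥(W₁ ⊔ W₂) →* ℂˣ}, IsLeft a → IsLeft a' → IsRight b → b ≠ 1 →
      a * b ≠ a' := fun {a a' b} ha ha' hb hne e =>
    hne ((hmi ha ha' hb isRight_one).1 (e.trans (mul_one a').symm)).2
  have n4 : ∀ {a b b' : ↥(W₁ ⊔ W₂) →* ℂˣ}, IsLeft a → IsRight b → IsRight b' → a ≠ 1 →
      a * b ≠ b' := fun {a b b'} ha hb hb' hne e =>
    hne ((hmi ha isLeft_one hb hb').1 (e.trans (one_mul b').symm)).1
  rw [alpha_eq, alpha_eq]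
  simp only [classInner_add_left, classInner_sub_left, classInner_add_right, classInner_sub_right,
    inner_linear, if_pos, if_neg h1, if_neg h1', if_neg h2, if_neg h2', if_neg (Ne.symm h1'),
    if_neg (Ne.symm h2'), if_neg (n1 hφ hψ' h1), if_neg (n1 hφ' hψ h1').symm,
    if_neg (n2 hφ hψ h1), if_neg (n2 hφ' hψ' h1').symm,
    if_neg (n3 hφ hφ' hψ h2), if_neg (n3 hφ' hφ hψ' h2').symm,
    if_neg (n4 hφ hψ hψ' h1), if_neg (n4 hφ' hψ' hψ h1').symm,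
    hmi hφ hφ' hψ hψ', ite_and]
  split_ifs <;> ring

end Sums

/-- Subgroups of the same order of a finite cyclic group are equal. -/
theorem eq_of_card_eq_of_cyclic {K : Type*} [Group K] [Finite K] [IsCyclic K] {A B : Subgroup K}
    (h : Nat.card A = Nat.card B) : A = B := by
  classical
  haveI := Fintype.ofFinite K
  set S := Finset.univ.filter fun x : K => x ^ Nat.card A = 1 with hS
  have key : ∀ C : Subgroup K, Nat.card C = Nat.card A → ∀ x, x ∈ C ↔ x ∈ S := by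
    intro C hC x
    have hsub : Finset.univ.filter (fun x => x ∈ C) ⊆ S := fun y hy => by
      refine Finset.mem_filter.2 ⟨Finset.mem_univ _, ?_⟩
      rw [← hC]
      exact congrArg Subtype.val (pow_card_eq_one' (x := (⟨y, (Finset.mem_filter.1 hy).2⟩ : C)))
    have hcard : S.card ≤ (Finset.univ.filter (fun x => x ∈ C)).card := by
      conv_rhs => rw [← Fintype.card_subtype, ← Nat.card_eq_fintype_card]
      exact (IsCyclic.card_pow_eq_one_le (α := K) (Nat.card_pos (α := A))).trans hC.ge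
    rw [← Finset.eq_of_subset_of_card_le hsub hcard]
    simp
  exact Subgroup.ext fun x => (key A rfl x).trans (key B h.symm x).symm

section SelfNorm

variable [Finite G] (hW : Cfsg.IsSelfNormalizingCyclic W₁ W₂)
include hW

omit [Finite G] in
theorem split_of : Split W₁ W₂ := ⟨hW.2.2.1, hW.2.2.2.1⟩

omit [Finite G] in
theorem comm_of : ∀ a b : ↥(W₁ ⊔ W₂), a * b = b * a := by
  haveI := hW.2.2.2.2.1
  exact IsCyclic.commGroup.mul_comm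

omit [Finite G] in
theorem centralizer_eq {w : G} (hw : w ∈ (↑(W₁ ⊔ W₂) : Set G) \ (↑W₁ ∪ ↑W₂)) :
    Subgroup.centralizer ({w} : Set G) = W₁ ⊔ W₂ := by
  rw [← hW.2.2.2.2.2 {w} (Set.singleton_subset_iff.2 hw) (Set.singleton_nonempty w)]
  ext x
  rw [Subgroup.mem_centralizer_singleton_iff, Subgroup.mem_set_normalizer_iff]
  simp only [Set.mem_singleton_iff]
  constructor
  · intro h y
    constructor
    · rintro rfl; rw [h, mul_inv_cancel_right]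
    · intro hy
      calc y = x⁻¹ * (x * y * x⁻¹) * x := by group
        _ = x⁻¹ * (w * x) := by rw [hy]; group
        _ = w := by rw [← h]; group
  · intro h
    exact mul_inv_eq_iff_eq_mul.1 ((h w).1 rfl)

/-- Elements conjugating one point off the factors to another lie in `W₁ ⊔ W₂`. -/
theorem mem_of_conj {w x : G} (hw : w ∈ (↑(W₁ ⊔ W₂) : Set G) \ (↑W₁ ∪ ↑W₂))
    (hx : x * w * x⁻¹ ∈ (↑(W₁ ⊔ W₂) : Set G) \ (↑W₁ ∪ ↑W₂)) : x ∈ W₁ ⊔ W₂ := by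
  haveI := hW.2.2.2.2.1
  have hxW : (W₁ ⊔ W₂).map (MulAut.conj x).toMonoidHom = (W₁ ⊔ W₂) := by
    conv_rhs => rw [← centralizer_eq hW hx]
    conv_lhs => rw [← centralizer_eq hW hw]
    ext y
    simp only [Subgroup.mem_map, Subgroup.mem_centralizer_singleton_iff, MulEquiv.coe_toMonoidHom,
      MulAut.conj_apply]
    constructor
    · rintro ⟨z, hz, rfl⟩
      calc x * z * x⁻¹ * (x * w * x⁻¹) = x * (z * w) * x⁻¹ := by group
        _ = x * (w * z) * x⁻¹ := by rw [hz]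
        _ = x * w * x⁻¹ * (x * z * x⁻¹) := by group
    · intro hy
      refine ⟨x⁻¹ * y * x, ?_, by group⟩
      calc x⁻¹ * y * x * w = x⁻¹ * (y * (x * w * x⁻¹)) * x := by group
        _ = x⁻¹ * (x * w * x⁻¹ * y) * x := by rw [hy]
        _ = w * (x⁻¹ * y * x) := by group
  have hchar : ∀ H : Subgroup G, H ≤ (W₁ ⊔ W₂) → H.map (MulAut.conj x).toMonoidHom = H := by
    intro H hH
    have h1 : H.map (MulAut.conj x).toMonoidHom ≤ (W₁ ⊔ W₂) := hxW ▸ Subgroup.map_mono hH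
    have h2 : Nat.card ((H.map (MulAut.conj x).toMonoidHom).subgroupOf (W₁ ⊔ W₂)) =
        Nat.card (H.subgroupOf (W₁ ⊔ W₂)) := by
      rw [Nat.card_congr (Subgroup.subgroupOfEquivOfLe h1).toEquiv,
        Nat.card_congr (Subgroup.subgroupOfEquivOfLe hH).toEquiv,
        Subgroup.card_map_of_injective (MulAut.conj x).injective]
    have h3 := congrArg (Subgroup.map (W₁ ⊔ W₂).subtype)
      (eq_of_card_eq_of_cyclic h2 :
        (H.map (MulAut.conj x).toMonoidHom).subgroupOf (W₁ ⊔ W₂) = H.subgroupOf (W₁ ⊔ W₂))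
    rwa [Subgroup.map_subgroupOf_eq_of_le h1, Subgroup.map_subgroupOf_eq_of_le hH] at h3
  have hmem : ∀ H : Subgroup G, H ≤ (W₁ ⊔ W₂) → ∀ y, y ∈ H ↔ x * y * x⁻¹ ∈ H := by
    intro H hH y
    conv_rhs => rw [← hchar H hH]
    simp [Subgroup.mem_map]
  rw [← hW.2.2.2.2.2 ((↑(W₁ ⊔ W₂) : Set G) \ (↑W₁ ∪ ↑W₂)) subset_rfl ⟨w, hw⟩,
    Subgroup.mem_set_normalizer_iff]
  intro y
  simp only [Set.mem_sdiff, Set.mem_union, SetLike.mem_coe]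
  rw [← hmem (W₁ ⊔ W₂) le_rfl, ← hmem W₁ le_sup_left, ← hmem W₂ le_sup_right]

/-- Induced functions agree with the original off the two factors. -/
theorem indFun_apply [Fintype G] (β : ↥(W₁ ⊔ W₂) → ℂ)
    (hβ : ∀ w : ↥(W₁ ⊔ W₂), (w : G) ∈ W₁ ∨ (w : G) ∈ W₂ → β w = 0)
    (w : ↥(W₁ ⊔ W₂)) (hw₁ : (w : G) ∉ W₁) (hw₂ : (w : G) ∉ W₂) :
    Cfsg.indFun (W₁ ⊔ W₂) β w = β w := by
  classical
  haveI := Fintype.ofFinite ↥(W₁ ⊔ W₂)
  have hw : (w : G) ∈ (↑(W₁ ⊔ W₂) : Set G) \ (↑W₁ ∪ ↑W₂) := ⟨w.2, fun h => h.elim hw₁ hw₂⟩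
  rw [Induce.indFun_eq_sum_of_subset (W₁ ⊔ W₂) (W₁ ⊔ W₂) β w]
  · have hall : ∀ x : ↥(W₁ ⊔ W₂),
        Cfsg.extendByZero (W₁ ⊔ W₂) β ((x : G)⁻¹ * w * x) = β w := by
      intro x
      have he : (x : G)⁻¹ * w * x = w := by
        have := congrArg Subtype.val (comm_of hW w x)
        simp only [Subgroup.coe_mul] at this
        rw [mul_assoc, this, inv_mul_cancel_left]
      rw [he]
      exact CharTheory.IndBasic.extendByZero_coe _ β w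
    rw [Finset.sum_congr rfl fun x _ => hall x, Finset.sum_const, Finset.card_univ, nsmul_eq_mul,
      ← Nat.card_eq_fintype_card, inv_mul_cancel_left₀ (Nat.cast_ne_zero.2 Nat.card_pos.ne')]
  · intro x hne
    by_cases hm : x⁻¹ * (w : G) * x ∈ W₁ ⊔ W₂
    · rw [CharTheory.IndBasic.extendByZero_of_mem _ β hm] at hne
      have hx : x⁻¹ * (w : G) * x⁻¹⁻¹ ∈ (↑(W₁ ⊔ W₂) : Set G) \ (↑W₁ ∪ ↑W₂) := by
        rw [inv_inv]; exact ⟨hm, fun h => hne (hβ ⟨_, hm⟩ h)⟩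
      exact inv_mem_iff.1 (mem_of_conj hW hw hx)
    · exact absurd (CharTheory.IndBasic.extendByZero_of_notMem _ β hm) hne

/-- Induction is isometric on functions vanishing on the factors. -/
theorem inner_ind [Fintype G] [Fintype ↥(W₁ ⊔ W₂)] (β β' : ↥(W₁ ⊔ W₂) → ℂ)
    (hβ : ∀ w : ↥(W₁ ⊔ W₂), (w : G) ∈ W₁ ∨ (w : G) ∈ W₂ → β w = 0)
    (hβ' : ∀ w : ↥(W₁ ⊔ W₂), (w : G) ∈ W₁ ∨ (w : G) ∈ W₂ → β' w = 0) :
    Cfsg.classInner (Cfsg.indFun (W₁ ⊔ W₂) β) (Cfsg.indFun (W₁ ⊔ W₂) β') =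
      Cfsg.classInner β β' := by
  rw [frobenius_reciprocity _ β (indFun_isClassFunction _ β'), classInner_def, classInner_def]
  congr 1
  refine Finset.sum_congr rfl fun w _ => ?_
  by_cases h : (w : G) ∈ W₁ ∨ (w : G) ∈ W₂
  · rw [hβ w h, zero_mul, zero_mul]
  · push Not at h
    rw [indFun_apply hW β' hβ' w h.1 h.2]

end SelfNorm

end Cfsg.Agent.OddChar.CyclicTI
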