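import Mathlib

/-!
# Arrays `r i + c j` with few nonzero entries
-/

namespace Cfsg.Agent.OddChar.CyclicTI

universe u v

open Finset in
/-- An array `r i + c j` of size `p × q`, `p + 2 ≤ q`, with fewer than `2 * p` nonzero entries is
zero, supported by one column with equal entries, or supported by one row with equal entries. -/
theorem few_nonzero {I : Type u} {J : Type v} [Fintype I] [Fintype J] [DecidableEq I] [DecidableEq J]
    (r : I → ℂ) (c : J → ℂ) (hp : 2 ≤ Fintype.card I)
    (hq : Fintype.card I + 2 ≤ Fintype.card J)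
    (h : (univ.filter fun x : I × J => r x.1 + c x.2 ≠ 0).card < 2 * Fintype.card I) :
    (∀ i j, r i + c j = 0) ∨ (∃ j₀, ∃ a : ℂ, ∀ i j, r i + c j = if j = j₀ then a else 0) ∨
      (∃ i₀, ∃ a : ℂ, ∀ i j, r i + c j = if i = i₀ then a else 0) := by
  set f : J → ℕ := fun j => (univ.filter fun i : I => r i + c j ≠ 0).card with hf
  have htot : (univ.filter fun x : I × J => r x.1 + c x.2 ≠ 0).card = ∑ j : J, f j := by
    rw [Finset.card_filter, ← Finset.univ_product_univ, Finset.sum_product_right]
    simp only [hf, Finset.card_filter]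
  rw [htot] at h
  obtain ⟨j₁, hj₁⟩ : ∃ j₁, f j₁ ≤ 1 := by
    by_contra hc
    push Not at hc
    have hs := Finset.sum_le_sum (fun j (_ : j ∈ (univ : Finset J)) => Nat.succ_le_of_lt (hc j))
    simp only [Finset.sum_const, Finset.card_univ, smul_eq_mul] at hs
    omega
  rcases Nat.le_one_iff_eq_zero_or_eq_one.1 hj₁ with h0 | h1
  · have hr : ∀ i, r i = -c j₁ := fun i => by
      have := Finset.filter_eq_empty_iff.1 (Finset.card_eq_zero.1 h0) (Finset.mem_univ i)
      exact eq_neg_of_add_eq_zero_left (not_not.1 this)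
    have hcol : ∀ j, f j = if c j = c j₁ then 0 else Fintype.card I := by
      intro j
      simp only [hf, hr]
      split_ifs with he
      · simp [he]
      · rw [Finset.filter_true_of_mem, Finset.card_univ]
        exact fun i _ h' => he (neg_add_eq_zero.1 h').symm
    simp only [hcol, Finset.sum_ite, Finset.sum_const_zero, zero_add, Finset.sum_const,
      smul_eq_mul] at h
    have hle : (univ.filter fun j => ¬ c j = c j₁).card ≤ 1 := by nlinarith
    haveI : Nonempty J := Fintype.card_pos_iff.1 (by omega)
    rcases Finset.card_le_one_iff_subset_singleton.1 hle with ⟨j₀, hj₀⟩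
    refine Or.inr (Or.inl ⟨j₀, c j₀ - c j₁, fun i j => ?_⟩)
    rw [hr]
    split_ifs with he
    · rw [he]; ring
    · by_contra hne
      have : j ∈ univ.filter fun j => ¬ c j = c j₁ :=
        Finset.mem_filter.2 ⟨Finset.mem_univ _, fun e => hne (by rw [e]; ring)⟩
      exact he (Finset.mem_singleton.1 (hj₀ this))
  · obtain ⟨i₀, hi₀⟩ := Finset.card_eq_one.1 h1
    have hi : r i₀ + c j₁ ≠ 0 :=
      (Finset.mem_filter.1 (hi₀.symm ▸ Finset.mem_singleton_self i₀ :
        i₀ ∈ univ.filter fun i : I => r i + c j₁ ≠ 0)).2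
    have hr : ∀ i, i ≠ i₀ → r i = -c j₁ := fun i hne => by
      refine eq_neg_of_add_eq_zero_left (by_contra fun h' => hne ?_)
      have hm : i ∈ univ.filter fun i : I => r i + c j₁ ≠ 0 :=
        Finset.mem_filter.2 ⟨Finset.mem_univ _, h'⟩
      rw [hi₀] at hm
      exact Finset.mem_singleton.1 hm
    have hall : ∀ j, c j = c j₁ := by
      by_contra hc
      push Not at hc
      obtain ⟨j₂, hj₂⟩ := hc
      set T := univ.filter fun j => ¬ c j = c j₁ with hT
      have hTpos : 1 ≤ T.card := Finset.card_pos.2 ⟨j₂, Finset.mem_filter.2 ⟨Finset.mem_univ _, hj₂⟩⟩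
      have hbig : ∀ j, (if c j = c j₁ then 1 else Fintype.card I - 1) ≤ f j := by
        intro j
        split_ifs with he
        · refine Finset.card_pos.2 ⟨i₀, Finset.mem_filter.2 ⟨Finset.mem_univ _, ?_⟩⟩
          rw [he]; exact hi
        · calc Fintype.card I - 1 = (univ.erase i₀).card := by
                rw [Finset.card_erase_of_mem (Finset.mem_univ _), Finset.card_univ]
            _ ≤ f j := by
                refine Finset.card_le_card fun i hi' => Finset.mem_filter.2 ⟨Finset.mem_univ _, ?_⟩
                rw [hr i (Finset.mem_erase.1 hi').1]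
                exact fun h' => he (neg_add_eq_zero.1 h').symm
      have hs := lt_of_le_of_lt (Finset.sum_le_sum fun j (_ : j ∈ (univ : Finset J)) => hbig j) h
      have hsplit := Finset.card_filter_add_card_filter_not (s := (univ : Finset J))
        (fun j => c j = c j₁)
      rw [Finset.card_univ, ← hT] at hsplit
      rw [Finset.sum_ite, Finset.sum_const, Finset.sum_const, smul_eq_mul, smul_eq_mul, mul_one,
        ← hT] at hs
      obtain ⟨p, hp'⟩ : ∃ p, Fintype.card I = p + 2 := ⟨_, (Nat.sub_add_cancel hp).symm⟩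
      rw [hp', show p + 2 - 1 = p + 1 by omega] at hs
      nlinarith
    refine Or.inr (Or.inr ⟨i₀, r i₀ + c j₁, fun i j => ?_⟩)
    rw [hall j]
    split_ifs with he
    · rw [he]
    · rw [hr i he]; ring

end Cfsg.Agent.OddChar.CyclicTI
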